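import Groth.Agent.PerfB.BoundedInd
import Groth.Agent.S0973

/-!
# Dévissage for properties of objects of a derived category which are closed under extensions

* `termwise`: from the terms `L^i[-i]` of a bounded complex to the complex;
* `homology`: from the cohomology objects `H^i(X)[-i]` of a bounded object to the object.
-/

set_option autoImplicit false
universe w v u

open CategoryTheory CategoryTheory.Limits CategoryTheory.Pretriangulated

namespace K229.Devissage

open Groth.Agent.PerfB.BoundedInd

variable {C : Type u} [Category.{v} C] [Abelian C] [HasDerivedCategory.{w} C]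

lemma aux (S : ObjectProperty (DerivedCategory C)) [S.IsTriangulatedClosed₂] [S.ContainsZero]
    [S.IsClosedUnderIsomorphisms] (n : ℕ) : ∀ (a : ℤ) (L : CochainComplex C ℤ),
    (∀ i : ℤ, i < a ∨ a + n ≤ i → IsZero (L.X i)) →
    (∀ i : ℤ, S ((DerivedCategory.singleFunctor C i).obj (L.X i))) →
    S (DerivedCategory.Q.obj L) := by
  induction n with
  | zero =>
    intro a L h _
    have : IsZero L := by
      rw [IsZero.iff_id_eq_zero]
      ext i
      exact (h i (by omega)).eq_of_src _ _
    exact S.prop_of_isZero (DerivedCategory.Q.map_isZero this)
  | succ n ih =>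
    intro a L h hS
    have hlow : ∀ i, i < a → IsZero (L.X i) := fun i hi => h i (Or.inl hi)
    let SC := ShortComplex.mk (kernel.ι (toLowest L a hlow)) (toLowest L a hlow)
      (kernel.condition _)
    have hSC : SC.ShortExact := shortExact L a hlow
    have hSCi : ∀ i : ℤ, (SC.map (HomologicalComplex.eval C (ComplexShape.up ℤ) i)).ShortExact :=
      fun i => hSC.map_of_exact _
    have hiso : ∀ i : ℤ, i ≠ a → IsIso ((kernel.ι (toLowest L a hlow)).f i) := by
      intro i hi
      have hz : IsZero (SC.map (HomologicalComplex.eval C (ComplexShape.up ℤ) i)).X₃ :=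
        HomologicalComplex.isZero_single_obj_X (ComplexShape.up ℤ) a (L.X a) i hi
      exact (hSCi i).isIso_f_iff.2 hz
    have hzero : IsZero ((kernel (toLowest L a hlow)).X a) := by
      have : IsIso (SC.map (HomologicalComplex.eval C (ComplexShape.up ℤ) a)).g := by
        change IsIso ((toLowest L a hlow).f a)
        dsimp [toLowest]
        rw [HomologicalComplex.mkHomToSingle_f]
        infer_instance
      exact (hSCi a).isIso_g_iff.1 this
    have h1 : S (DerivedCategory.Q.obj (kernel (toLowest L a hlow))) := by
      refine ih (a + 1) _ (fun i hi => ?_) (fun i => ?_)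
      · by_cases hia : i = a
        · subst hia; exact hzero
        · have := hiso i hia
          exact (h i (by push_cast at hi ⊢; omega)).of_iso
            (asIso ((kernel.ι (toLowest L a hlow)).f i))
      · by_cases hia : i = a
        · subst hia
          exact S.prop_of_isZero ((DerivedCategory.singleFunctor C i).map_isZero hzero)
        · have := hiso i hia
          exact S.prop_of_iso ((DerivedCategory.singleFunctor C i).mapIso
            (asIso ((kernel.ι (toLowest L a hlow)).f i)).symm) (hS i)
    have h3 : S ((DerivedCategory.singleFunctor C a).obj (L.X a)) := hS a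
    exact S.ext_of_isTriangulatedClosed₂ _ (DerivedCategory.triangleOfSES_distinguished hSC) h1 h3

/-- An extension closed property containing all the `L^i[-i]` of a bounded complex `L` contains
`L`. -/
theorem termwise (S : ObjectProperty (DerivedCategory C)) [S.IsTriangulatedClosed₂]
    [S.ContainsZero] [S.IsClosedUnderIsomorphisms] (L : CochainComplex C ℤ) (a b : ℤ)
    (h : ∀ i : ℤ, i < a ∨ b < i → IsZero (L.X i))
    (hS : ∀ i : ℤ, S ((DerivedCategory.singleFunctor C i).obj (L.X i))) :
    S (DerivedCategory.Q.obj L) :=
  aux S (b + 1 - a).toNat a L (fun i hi => h i (by omega)) hS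

/-- An extension closed property containing all the `H^i(X)[-i]` of a bounded object `X`
contains `X`. -/
theorem homology (S : ObjectProperty (DerivedCategory C)) [S.IsTriangulatedClosed₂]
    [S.ContainsZero] [S.IsClosedUnderIsomorphisms] (X : DerivedCategory C) (a b : ℤ)
    (h : ∀ i : ℤ, i < a ∨ b < i → IsZero ((DerivedCategory.homologyFunctor C i).obj X))
    (hS : ∀ i : ℤ, S ((DerivedCategory.singleFunctor C i).obj
      ((DerivedCategory.homologyFunctor C i).obj X))) : S X := by
  have hb : X.IsLE b := by
    rw [DerivedCategory.isLE_iff]
    exact fun i hi => h i (Or.inr hi)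
  refine Groth.Agent.S0973.devissage S b (b + 1 - a).toNat X ?_ hb hS
  rw [DerivedCategory.isGE_iff]
  intro i hi
  exact h i (by have := Int.self_le_toNat (b + 1 - a); omega)

end K229.Devissage
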