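import Groth.Agent.DRing.K229.PerfRetract
import Groth.Agent.DRing.K229.Devissage

/-!
# Perfect objects of `D(A)`: thick subcategory, generation by `A`, dévissage
-/

set_option autoImplicit false

universe u

open CategoryTheory CategoryTheory.Limits CategoryTheory.Pretriangulated

open scoped ZeroObject

attribute [local instance] HasDerivedCategory.standard

namespace K229.PerfInd

open DerivedCategory Groth.Agent.LoccohB

variable {A : Type u} [CommRing A]

/-- The perfect objects. -/
def perf (A : Type u) [CommRing A] : ObjectProperty (Dual.D A) := fun K => DRing.IsPerfect A K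

instance : (perf A).IsClosedUnderIsomorphisms where
  of_iso e h := PerfTri.isPerfect_of_iso e h

instance : (perf A).IsTriangulated where
  exists_zero := ⟨0, isZero_zero _, PerfTri.isPerfect_of_iso
    ((singleFunctor (ModuleCat.{u} A) 0).map_isZero
      (ModuleCat.isZero_of_subsingleton (ModuleCat.of A PUnit.{u + 1}))).isoZero
    (PerfTri.isPerfect_inD_of_projective (A := A) PUnit.{u + 1})⟩
  isStableUnderShiftBy n := ⟨fun K hK => PerfTri.isPerfect_shift n hK⟩
  ext₂' T hT h₁ h₃ := ObjectProperty.le_isoClosure _ _ (PerfTri.isPerfect_obj₂ hT h₁ h₃)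

instance : (perf A).IsStableUnderRetracts :=
  ⟨fun r h => PerfRetract.isPerfect_of_retract r.i r.r r.retract h⟩

/-- A bounded complex of perfect modules is perfect. -/
theorem isPerfect_of_termwise (K : DRing.Cx A) (a b : ℤ) (hab : DRing.VanishesOutside K a b)
    (hK : ∀ i : ℤ, DRing.IsPerfectModule A (K.X i)) : DRing.IsPerfect A (DRing.toD K) :=
  Groth.Agent.PerfB.BoundedInd.bounded_induction (perf A) K a b hab hK

/-- A bounded object with perfect cohomology modules is perfect. -/
theorem isPerfect_of_homology (K : Dual.D A)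
    (hb : ∃ a b : ℤ, ∀ i : ℤ, (i < a ∨ b < i) → Subsingleton (Dual.HD A K i))
    (hK : ∀ i : ℤ, DRing.IsPerfectModule A (Dual.HD A K i)) : DRing.IsPerfect A K := by
  obtain ⟨a, b, h⟩ := hb
  refine K229.Devissage.homology (perf A) K a b (fun i hi => ?_) (fun i => ?_)
  · have := h i hi
    exact ModuleCat.isZero_of_subsingleton _
  · exact Groth.Agent.PerfB.BoundedInd.prop_single (perf A) _ (hK i) i

section Generation

variable (P : ObjectProperty (Dual.D A)) [P.IsClosedUnderIsomorphisms]
  (hR : P (Dual.inD A A))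
  (hshift : ∀ (K : Dual.D A) (n : ℤ), P K → P ((shiftFunctor (Dual.D A) n).obj K))
  (hext : ∀ T : Triangle (Dual.D A), T ∈ distinguishedTriangles → P T.obj₁ → P T.obj₃ → P T.obj₂)
  (hsum : ∀ (X Y : Dual.D A) [HasBinaryBiproduct X Y], P (X ⊞ Y) → P X)

include hR hsum in
lemma prop_zero : P (0 : Dual.D A) :=
  hsum 0 (Dual.inD A A) (P.prop_of_iso
    { hom := biprod.inr
      inv := biprod.snd
      hom_inv_id := by simp
      inv_hom_id := by
        rw [← biprod.total, (isZero_zero _).eq_of_tgt (biprod.fst : (0 : Dual.D A) ⊞ _ ⟶ _) 0,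
          zero_comp, zero_add] } hR)

include hR hshift hext hsum in
lemma isTriangulated : P.IsTriangulated where
  exists_zero := ⟨0, isZero_zero _, prop_zero P hR hsum⟩
  isStableUnderShiftBy n := ⟨fun K hK => hshift K n hK⟩
  ext₂' T hT h₁ h₃ := ObjectProperty.le_isoClosure _ _ (hext T hT h₁ h₃)

include hsum in
lemma prop_of_retract {K X : Dual.D A} (i : K ⟶ X) (r : X ⟶ K) (h : i ≫ r = 𝟙 K) (hX : P X) :
    P K := by
  obtain ⟨B, e, -⟩ := K229.PcRetract.exists_biprod_of_retract i r h
  exact hsum K B (P.prop_of_iso e hX)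

include hR hext hsum in
lemma prop_free (n : ℕ) : P (Dual.inD A (ULift.{u} (Fin n) → A)) := by
  induction n with
  | zero =>
    refine P.prop_of_iso ?_ (prop_zero P hR hsum)
    exact ((singleFunctor (ModuleCat.{u} A) 0).map_isZero
      (ModuleCat.isZero_of_subsingleton (ModuleCat.of A (ULift.{u} (Fin 0) → A)))).isoZero.symm
  | succ n ih =>
    have e : (ULift.{u} (Fin (n + 1)) → A) ≃ₗ[A] A × (ULift.{u} (Fin n) → A) :=
      (LinearEquiv.funCongrLeft A A Equiv.ulift.symm) ≪≫ₗ
        (Fin.consLinearEquiv A (fun _ => A)).symm ≪≫ₗ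
        (LinearEquiv.refl A A).prodCongr (LinearEquiv.funCongrLeft A A Equiv.ulift)
    obtain ⟨T, hT, h1, h2, h3⟩ := PerfTri.exists_triangle (A := A)
      (LinearMap.inl A A (ULift.{u} (Fin n) → A)) (LinearMap.snd A A (ULift.{u} (Fin n) → A))
      LinearMap.inl_injective (by rw [LinearMap.exact_iff, LinearMap.range_inl])
      LinearMap.snd_surjective
    have := hext T hT (by rw [h1]; exact hR) (by rw [h3]; exact ih)
    rw [h2] at this
    exact P.prop_of_iso (PerfTri.inDIso e).symm this

include hR hext hsum in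
lemma prop_projective (M : Type u) [AddCommGroup M] [Module A M] [Module.Finite A M]
    [Module.Projective A M] : P (Dual.inD A M) := by
  obtain ⟨n, f, hf⟩ := Module.Finite.exists_fin' A M
  let f' : (ULift.{u} (Fin n) → A) →ₗ[A] M := f ∘ₗ (LinearEquiv.funCongrLeft A A Equiv.ulift.symm).toLinearMap
  have hf' : Function.Surjective f' := hf.comp (LinearEquiv.surjective _)
  obtain ⟨s, hs⟩ := Module.projective_lifting_property f' LinearMap.id hf'
  refine prop_of_retract P hsum ((singleFunctor (ModuleCat.{u} A) 0).map (ModuleCat.ofHom s))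
    ((singleFunctor (ModuleCat.{u} A) 0).map (ModuleCat.ofHom f')) ?_ (prop_free P hR hext hsum n)
  rw [← Functor.map_comp, ← ModuleCat.ofHom_comp, hs]
  exact CategoryTheory.Functor.map_id _ _

include hR hshift hext hsum in
/-- Every perfect object is in the thick subcategory generated by `A`. -/
theorem prop_of_isPerfect (K : Dual.D A) (hK : DRing.IsPerfect A K) : P K := by
  obtain ⟨E, a, b, h1, h2, ⟨e⟩⟩ := hK
  have := isTriangulated P hR hshift hext hsum
  refine P.prop_of_iso e (Groth.Agent.PerfB.BoundedInd.bounded_induction P E a b h1 fun i => ?_)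
  obtain ⟨h3, h4⟩ := h2 i
  exact prop_projective P hR hext hsum (E.X i)

end Generation

end K229.PerfInd
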