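import Mathlib.Algebra.Category.ModuleCat.Monoidal.Basic
import Mathlib.CategoryTheory.Monoidal.Rigid.Basic
import Mathlib.Algebra.Module.Projective
import Mathlib.RingTheory.Finiteness.Defs
import Mathlib.RingTheory.Finiteness.Basic
import Mathlib.LinearAlgebra.TensorProduct.Finiteness
import Mathlib.LinearAlgebra.StdBasis
import Mathlib.LinearAlgebra.FreeModule.Basic

/-!
# Dualizable modules are finite projective
-/

set_option autoImplicit false
universe u v w

open CategoryTheory MonoidalCategory TensorProduct

namespace K229.DualMod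

variable {R : Type u} [CommRing R]

/-- A module with a finite dual basis is finite projective. -/
theorem finite_projective_of_dualBasis {M : Type v} [AddCommGroup M] [Module R M] {ι : Type w}
    [Fintype ι] (m : ι → M) (f : ι → (M →ₗ[R] R)) (h : ∀ x, ∑ i, f i x • m i = x) :
    Module.Finite R M ∧ Module.Projective R M := by
  classical
  let s : M →ₗ[R] (ι → R) := LinearMap.pi f
  let p : (ι → R) →ₗ[R] M := Fintype.linearCombination R m
  have hps : p ∘ₗ s = LinearMap.id := by
    ext x
    simp [p, s, Fintype.linearCombination_apply, h]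
  refine ⟨Module.Finite.of_surjective p (fun x => ⟨s x, LinearMap.congr_fun hps x⟩), ?_⟩
  exact Module.Projective.of_split s p hps

/-- The elementary form of the duality statement. -/
theorem finite_projective_of_pairing {M N : Type v} [AddCommGroup M] [Module R M]
    [AddCommGroup N] [Module R N] (t : M ⊗[R] N) (e : N ⊗[R] M →ₗ[R] R)
    (h : ∀ x : M, TensorProduct.rid R M (LinearMap.lTensor M e
      (TensorProduct.assoc R M N M (t ⊗ₜ x))) = x) :
    Module.Finite R M ∧ Module.Projective R M := by
  classical
  obtain ⟨S, hS⟩ := TensorProduct.exists_finset t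
  refine finite_projective_of_dualBasis (ι := S) (fun i => i.1.1)
    (fun i => e ∘ₗ TensorProduct.mk R N M i.1.2) fun x => ?_
  conv_rhs => rw [← h x, hS]
  rw [TensorProduct.sum_tmul, map_sum, map_sum, map_sum]
  simp only [TensorProduct.assoc_tmul, LinearMap.lTensor_tmul, TensorProduct.rid_tmul,
    LinearMap.comp_apply, TensorProduct.mk_apply]
  exact Finset.sum_coe_sort S (fun i : M × N => e (i.2 ⊗ₜ x) • i.1)

theorem finite_projective_of_pairing' {M N : Type v} [AddCommGroup M] [Module R M]
    [AddCommGroup N] [Module R N] (t : M ⊗[R] N) (e : N ⊗[R] M →ₗ[R] R)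
    (h : ∀ y : N, TensorProduct.lid R N (LinearMap.rTensor N e
      ((TensorProduct.assoc R N M N).symm (y ⊗ₜ t))) = y) :
    Module.Finite R N ∧ Module.Projective R N := by
  classical
  obtain ⟨S, hS⟩ := TensorProduct.exists_finset t
  refine finite_projective_of_dualBasis (ι := S) (fun i => i.1.2)
    (fun i => e ∘ₗ (TensorProduct.mk R N M).flip i.1.1) fun y => ?_
  conv_rhs => rw [← h y, hS]
  rw [TensorProduct.tmul_sum, map_sum, map_sum, map_sum]
  simp only [TensorProduct.assoc_symm_tmul, LinearMap.rTensor_tmul, TensorProduct.lid_tmul,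
    LinearMap.comp_apply, TensorProduct.mk_apply, LinearMap.flip_apply]
  exact Finset.sum_coe_sort S (fun i : M × N => e (y ⊗ₜ i.1) • i.2)

/-- Dualizable objects of `ModuleCat R` are finite projective. -/
theorem finite_projective_of_exactPairing (M N : Type u) [AddCommGroup M]
    [Module R M] [AddCommGroup N] [Module R N] [ExactPairing (ModuleCat.of R M) (ModuleCat.of R N)] :
    Module.Finite R M ∧ Module.Projective R M ∧ Module.Finite R N ∧ Module.Projective R N := by
  let t : M ⊗[R] N := (η_ (ModuleCat.of R M) (ModuleCat.of R N)).hom (1 : R)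
  let e : N ⊗[R] M →ₗ[R] R := (ε_ (ModuleCat.of R M) (ModuleCat.of R N)).hom
  have h1 := finite_projective_of_pairing t e fun x => by
    have := ExactPairing.evaluation_coevaluation (X := ModuleCat.of R M) (Y := ModuleCat.of R N)
    have := congrArg (fun f => f.hom ((1 : R) ⊗ₜ[R] x)) this
    refine (congrArg (TensorProduct.rid R M) this).trans ?_
    change (1 : R) • ((1 : R) • x) = x
    simp
  have h3 := finite_projective_of_pairing' t e fun y => by
    have := ExactPairing.coevaluation_evaluation (X := ModuleCat.of R M) (Y := ModuleCat.of R N)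
    have := congrArg (fun f => f.hom (y ⊗ₜ[R] (1 : R))) this
    refine (congrArg (TensorProduct.lid R N) this).trans ?_
    change (1 : R) • ((1 : R) • y) = y
    simp
  exact ⟨h1.1, h1.2, h3.1, h3.2⟩

end K229.DualMod
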