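import Groth.Agent.DRing.K229.LiftAcyc
import Groth.Agent.LoccohB.FlatLBC
import Mathlib.LinearAlgebra.TensorProduct.Quotient
import Mathlib.Algebra.Category.ModuleCat.Biproducts

/-!
# Reduction modulo an ideal and the conditions of `LiftAbs.LiftClass`
-/

set_option autoImplicit false

universe u

open CategoryTheory CategoryTheory.Limits
open scoped TensorProduct

namespace K229.LiftMod

open LiftAbs

variable {R : Type u} [CommRing R] (I : Ideal R)

/-- Reduction modulo `I`. -/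
noncomputable abbrev red : ModuleCat.{u} R ⥤ ModuleCat.{u} (R ⧸ I) :=
  ModuleCat.extendScalars.{u, u, u} (Ideal.Quotient.mk I)

/-- `X/IX` is the extension of scalars. -/
noncomputable def redEquiv (X : ModuleCat.{u} R) : (R ⧸ I) ⊗[R] X ≃ₗ[R ⧸ I] (red I).obj X :=
  Groth.Agent.LoccohB.FlatLBC.extEquiv R (R ⧸ I) X

/-- The canonical map `X ⟶ X/IX`. -/
noncomputable def toRed (X : ModuleCat.{u} R) :
    X ⟶ (ModuleCat.restrictScalars.{u} (Ideal.Quotient.mk I)).obj ((red I).obj X) :=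
  (ModuleCat.extendRestrictScalarsAdj.{u, u, u} (Ideal.Quotient.mk I)).unit.app X

lemma toRed_apply (X : ModuleCat.{u} R) (x : X) :
    (toRed I X).hom x = redEquiv I X (1 ⊗ₜ x) := rfl

lemma red_map_toRed {X Y : ModuleCat.{u} R} (f : X ⟶ Y) (x : X) :
    ((red I).map f).hom ((toRed I X).hom x) = (toRed I Y).hom (f.hom x) := rfl

lemma one_tmul_surjective (X : ModuleCat.{u} R) (t : (R ⧸ I) ⊗[R] X) :
    ∃ x : X, (1 : R ⧸ I) ⊗ₜ[R] x = t := by
  induction t using TensorProduct.induction_on with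
  | zero => exact ⟨0, by simp⟩
  | tmul r x =>
    obtain ⟨r, rfl⟩ := Ideal.Quotient.mk_surjective r
    refine ⟨r • x, ?_⟩
    rw [← TensorProduct.smul_tmul, Algebra.smul_def, mul_one]
    rfl
  | add a b ha hb =>
    obtain ⟨x, rfl⟩ := ha
    obtain ⟨y, rfl⟩ := hb
    exact ⟨x + y, by rw [TensorProduct.tmul_add]⟩

lemma toRed_surjective (X : ModuleCat.{u} R) : Function.Surjective (toRed I X).hom := by
  intro y
  obtain ⟨x, hx⟩ := one_tmul_surjective I X ((redEquiv I X).symm y)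
  exact ⟨x, by rw [toRed_apply, hx]; simp⟩

lemma toRed_eq_zero_iff (X : ModuleCat.{u} R) (x : X) :
    (toRed I X).hom x = 0 ↔ x ∈ I • (⊤ : Submodule R X) := by
  rw [toRed_apply]
  have h1 : redEquiv I X ((1 : R ⧸ I) ⊗ₜ[R] x) = 0 ↔ (1 : R ⧸ I) ⊗ₜ[R] x = 0 :=
    (redEquiv I X).map_eq_zero_iff
  refine h1.trans ?_
  rw [← (TensorProduct.quotTensorEquivQuotSMul X I).map_eq_zero_iff,
    TensorProduct.quotTensorEquivQuotSMul_mk_one_tmul, Submodule.Quotient.mk_eq_zero]

/-- `F.map f` is determined by its values on the image of `X`. -/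
lemma red_hom_ext {X : ModuleCat.{u} R} {Y : ModuleCat.{u} (R ⧸ I)} {f g : (red I).obj X ⟶ Y}
    (h : ∀ x : X, f.hom ((toRed I X).hom x) = g.hom ((toRed I X).hom x)) : f = g :=
  ModuleCat.ExtendScalars.hom_ext h

lemma red_full {X Y : ModuleCat.{u} R} [Module.Projective R X] (g : (red I).obj X ⟶ (red I).obj Y) :
    ∃ f : X ⟶ Y, (red I).map f = g := by
  let g' : X →ₗ[R] (ModuleCat.restrictScalars.{u} (Ideal.Quotient.mk I)).obj ((red I).obj Y) :=
    (toRed I X ≫ (ModuleCat.restrictScalars.{u} (Ideal.Quotient.mk I)).map g).hom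
  obtain ⟨f, hf⟩ := Module.projective_lifting_property (toRed I Y).hom g' (toRed_surjective I Y)
  refine ⟨ModuleCat.ofHom f, red_hom_ext I fun x => ?_⟩
  rw [red_map_toRed]
  exact LinearMap.congr_fun hf x

lemma range_sup_of_epi {X Y : ModuleCat.{u} R} (f : X ⟶ Y) [Epi ((red I).map f)] :
    LinearMap.range f.hom ⊔ I • (⊤ : Submodule R Y) = ⊤ := by
  have hs : Function.Surjective ((red I).map f).hom := (ModuleCat.epi_iff_surjective _).1 inferInstance
  rw [eq_top_iff]
  rintro y -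
  obtain ⟨z, hz⟩ := hs ((toRed I Y).hom y)
  obtain ⟨x, rfl⟩ := toRed_surjective I X z
  rw [red_map_toRed] at hz
  have h1 : y - f.hom x ∈ I • (⊤ : Submodule R Y) := by
    rw [← toRed_eq_zero_iff, map_sub, hz, sub_self]
  have h2 : y = f.hom x + (y - f.hom x) := by abel
  rw [h2]
  exact Submodule.add_mem_sup ⟨x, rfl⟩ h1

lemma epi_red_of_range_sup {X Y : ModuleCat.{u} R} (f : X ⟶ Y)
    (h : LinearMap.range f.hom ⊔ I • (⊤ : Submodule R Y) = ⊤) : Epi ((red I).map f) := by
  rw [ModuleCat.epi_iff_surjective]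
  intro z
  obtain ⟨y, rfl⟩ := toRed_surjective I Y z
  have hy : y ∈ LinearMap.range f.hom ⊔ I • (⊤ : Submodule R Y) := by rw [h]; trivial
  obtain ⟨_, ⟨x, rfl⟩, t, ht, rfl⟩ := Submodule.mem_sup.1 hy
  refine ⟨(toRed I X).hom x, ?_⟩
  rw [red_map_toRed, map_add, (toRed_eq_zero_iff I Y t).2 ht, add_zero]

instance projective_red (X : ModuleCat.{u} R) [Projective X] : Projective ((red I).obj X) := by
  have : (ModuleCat.restrictScalars.{u} (Ideal.Quotient.mk I)).PreservesEpimorphisms := inferInstance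
  exact (ModuleCat.extendRestrictScalarsAdj.{u, u, u} (Ideal.Quotient.mk I)).map_projective X inferInstance

/-- The lifting conditions for classes of projective modules. -/
theorem liftClass (Pc : ObjectProperty (ModuleCat.{u} R)) [Pc.IsClosedUnderIsomorphisms]
    (h1 : ∀ X : ModuleCat.{u} R, Pc X → Module.Projective R X)
    (h2 : ∀ X Y : ModuleCat.{u} R, Pc X → Pc (ModuleCat.of R (X × Y)) → Pc Y)
    (h3 : ∀ (X Y : ModuleCat.{u} R) (f : X ⟶ Y), Pc X → Pc Y →
      LinearMap.range f.hom ⊔ I • (⊤ : Submodule R Y) = ⊤ → Function.Surjective f.hom) :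
    LiftClass (red I) Pc where
  iso e hX := Pc.prop_of_iso e hX
  proj hX := by
    have := h1 _ hX
    exact ModuleCat.projective_of_categoryTheory_projective _
  projF {X} hX := by
    have := h1 _ hX
    have : Projective X := ModuleCat.projective_of_categoryTheory_projective _
    infer_instance
  full {X Y} hX _ g := by
    have := h1 _ hX
    exact red_full I g
  epi f hX hY hf := by
    rw [ModuleCat.epi_iff_surjective]
    exact h3 _ _ f hX hY (range_sup_of_epi I f)
  compl {X Y} hX hXY := h2 X Y hX (Pc.prop_of_iso (ModuleCat.biprodIsoProd X Y) hXY)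

lemma lifts_iff (Pc : ObjectProperty (ModuleCat.{u} R)) (Y : ModuleCat.{u} (R ⧸ I)) :
    LiftClass.Lifts (red I) Pc Y ↔
      ∃ X : ModuleCat.{u} R, Pc X ∧ Nonempty (TensorProduct R (R ⧸ I) X ≃ₗ[R ⧸ I] Y) := by
  constructor
  · rintro ⟨X, hX, ⟨e⟩⟩
    exact ⟨X, hX, ⟨(redEquiv I X).trans e.toLinearEquiv⟩⟩
  · rintro ⟨X, hX, ⟨e⟩⟩
    exact ⟨X, hX, ⟨((redEquiv I X).symm.trans e).toModuleIso⟩⟩

end K229.LiftMod
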