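import Mathlib.Algebra.Category.Ring.FinitePresentation
import Mathlib.Algebra.Category.Ring.Constructions
import Mathlib.RingTheory.FiniteType
import Mathlib.RingTheory.Int.Basic

/-!
# A finitely generated subring of a filtered colimit of rings lifts to a stage
-/

set_option autoImplicit false

universe u

open CategoryTheory CategoryTheory.Limits

namespace K229.FilFactor

theorem exists_factor {J : Type u} [SmallCategory J] [IsFiltered J]
    (F : J ⥤ CommRingCat.{u}) (c : Cocone F) (hc : IsColimit c) (T : Set c.pt) (hT : T.Finite) :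
    ∃ (j : J) (ψ : Algebra.adjoin ℤ T →+* F.obj j),
      (c.ι.app j).hom.comp ψ = algebraMap (Algebra.adjoin ℤ T) c.pt := by
  let R : CommRingCat.{u} := CommRingCat.of (ULift.{u} ℤ)
  have hR : IsInitial R := CommRingCat.isInitial
  let S : CommRingCat.{u} := CommRingCat.of (Algebra.adjoin ℤ T)
  let f : R ⟶ S := hR.to S
  have hf : f.hom.FinitePresentation := by
    have : IsNoetherianRing R := isNoetherianRing_of_ringEquiv ℤ (ULift.ringEquiv : ULift.{u} ℤ ≃+* ℤ).symm
    rw [← RingHom.FinitePresentation.of_finiteType]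
    have h1 : Algebra.FiniteType ℤ (Algebra.adjoin ℤ T) :=
      (Subalgebra.fg_iff_finiteType _).1 ⟨hT.toFinset, by rw [Set.Finite.coe_toFinset]⟩
    have h2 : (algebraMap ℤ (Algebra.adjoin ℤ T)).FiniteType := RingHom.finiteType_algebraMap.2 h1
    refine RingHom.FiniteType.of_comp_finiteType (f := (ULift.ringEquiv (R := ℤ) : ULift.{u} ℤ ≃+* ℤ).symm.toRingHom) ?_
    convert h2
    exact RingHom.ext_int _ _
  obtain ⟨j, g', -, h⟩ := RingHom.EssFiniteType.exists_eq_comp_ι_app_of_isColimit R F
    { app := fun i => hR.to (F.obj i), naturality := fun _ _ _ => hR.hom_ext _ _ } f c hc hf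
    (CommRingCat.ofHom (algebraMap (Algebra.adjoin ℤ T) c.pt)) (fun i => hR.hom_ext _ _)
  exact ⟨j, g'.hom, congr($(h).hom).symm⟩

end K229.FilFactor
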