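import Groth.Prelude.Def_CohDer
import Groth.Agent.PerfA.Hocolim
import Groth.Agent.PerfB.CoprodDerived
import Groth.Agent.S0985

/-!
# Maps to countable sums and to colimits of sequences of complexes

For an object `K` of a pretriangulated category such that maps from `K` to countable direct sums are finite sums,
the same holds for the shifts of `K`; hence maps from `K` to a homotopy colimit, in particular to the colimit
of a sequence of complexes, factor through a stage.
-/

set_option autoImplicit false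
universe w v u
open CategoryTheory CategoryTheory.Limits CategoryTheory.Pretriangulated

namespace K229.FinSum

open Groth.Agent.PerfA.Hocolim

variable {D : Type u} [Category.{v} D] [Preadditive D]

/-- Maps from `K` to all countable direct sums are finite sums of maps to the summands. -/
def FS (K : D) : Prop := ∀ (E : ℕ → D) [HasCoproduct E] (x : K ⟶ ∐ E), IsFinSum E x

lemma FS.exists_cofan {K : D} (hK : FS K) {E : ℕ → D} (c : Cofan E) (hc : IsColimit c) (x : K ⟶ c.pt) :
    ∃ (N : ℕ) (g : ∀ k, K ⟶ E k), x = ∑ k ∈ Finset.range N, g k ≫ c.inj k := by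
  have : HasCoproduct E := ⟨⟨⟨c, hc⟩⟩⟩
  let e : ∐ E ≅ c.pt := (coproductIsCoproduct E).coconePointUniqueUpToIso hc
  have he : ∀ k, Sigma.ι E k ≫ e.hom = c.inj k := fun k =>
    (coproductIsCoproduct E).comp_coconePointUniqueUpToIso_hom hc ⟨k⟩
  obtain ⟨N, g, hg⟩ := hK E (x ≫ e.inv)
  refine ⟨N, g, ?_⟩
  rw [← cancel_mono e.inv, hg, Preadditive.sum_comp]
  refine Finset.sum_congr rfl fun k _ => ?_
  rw [← he, Category.assoc, Category.assoc, Iso.hom_inv_id, Category.comp_id]

lemma FS.of_iso {K L : D} (e : K ≅ L) (hK : FS K) : FS L := by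
  intro E _ x
  obtain ⟨N, g, hg⟩ := hK E (e.hom ≫ x)
  refine ⟨N, fun k => e.inv ≫ g k, ?_⟩
  rw [← cancel_epi e.hom, hg, Preadditive.comp_sum]
  refine Finset.sum_congr rfl fun k _ => ?_
  simp only [Category.assoc, e.hom_inv_id_assoc]

lemma isFinSum_zero (E : ℕ → D) [HasCoproduct E] (K : D) : IsFinSum E (0 : K ⟶ ∐ E) :=
  ⟨0, fun _ => 0, by simp⟩

lemma isFinSum_ι (E : ℕ → D) [HasCoproduct E] {K : D} (n : ℕ) (f : K ⟶ E n) :
    IsFinSum E (f ≫ Sigma.ι E n) := by
  classical
  refine ⟨n + 1, fun k => if h : n = k then f ≫ eqToHom (by rw [h]) else 0, ?_⟩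
  rw [Finset.sum_eq_single n]
  · simp
  · intro b _ hb
    simp only [dif_neg (Ne.symm hb), zero_comp]
  · intro h
    exact absurd (Finset.mem_range.2 (Nat.lt_succ_self n)) h

lemma IsFinSum.add {E : ℕ → D} [HasCoproduct E] {K : D} {x y : K ⟶ ∐ E} (hx : IsFinSum E x)
    (hy : IsFinSum E y) : IsFinSum E (x + y) := by
  obtain ⟨N, g, rfl⟩ := hx
  obtain ⟨M, h, rfl⟩ := hy
  have key : ∀ (N M : ℕ) (hNM : N ≤ M) (g : ∀ k, K ⟶ E k),
      ∑ k ∈ Finset.range N, g k ≫ Sigma.ι E k =
        ∑ k ∈ Finset.range M, (if k < N then g k else 0) ≫ Sigma.ι E k := by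
    intro N M hNM g
    rw [← Finset.sum_subset (Finset.range_mono hNM)]
    · refine Finset.sum_congr rfl fun k hk => ?_
      rw [if_pos (Finset.mem_range.1 hk)]
    · intro k _ hk
      rw [if_neg (fun h => hk (Finset.mem_range.2 h)), zero_comp]
  refine ⟨max N M, fun k => (if k < N then g k else 0) + (if k < M then h k else 0), ?_⟩
  rw [key N _ (le_max_left N M) g, key M _ (le_max_right N M) h, ← Finset.sum_add_distrib]
  refine Finset.sum_congr rfl fun k _ => ?_
  rw [Preadditive.add_comp]

/-- The comparison map of `CohDer` being surjective means that maps to countable sums are finite sums. -/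
lemma fs_of_surjective {K : D}
    (hK : ∀ (E : ℕ → D) [HasCoproduct fun i : ULift.{v} ℕ => E i.down],
      Function.Surjective (CohDer.homSumToHomCoprod K (fun i : ULift.{v} ℕ => E i.down))) : FS K := by
  classical
  intro E _ x
  let c : Cofan (fun i : ULift.{v} ℕ => E i.down) := Cofan.mk (∐ E) (fun i => Sigma.ι E i.down)
  have hc : IsColimit c := Cofan.IsColimit.mk c (fun s => Sigma.desc (fun k => s.inj ⟨k⟩))
    (fun s i => Sigma.ι_desc _ _) (fun s m hm => by
      refine Sigma.hom_ext (f := E) m _ ?_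
      intro k
      rw [Sigma.ι_desc]
      exact hm ⟨k⟩)
  have hU : HasCoproduct fun i : ULift.{v} ℕ => E i.down := ⟨⟨⟨c, hc⟩⟩⟩
  let e : (∐ fun i : ULift.{v} ℕ => E i.down) ≅ ∐ E :=
    (coproductIsCoproduct _).coconePointUniqueUpToIso hc
  have he : ∀ i, Sigma.ι (fun i : ULift.{v} ℕ => E i.down) i ≫ e.hom = Sigma.ι E i.down := by
    intro i
    exact (coproductIsCoproduct _).comp_coconePointUniqueUpToIso_hom hc ⟨i⟩
  obtain ⟨s, hs⟩ := hK E (x ≫ e.inv)
  have hx : x = CohDer.homSumToHomCoprod K (fun i : ULift.{v} ℕ => E i.down) s ≫ e.hom := by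
    rw [hs, Category.assoc, e.inv_hom_id, Category.comp_id]
  rw [hx]
  clear hx hs
  induction s using DirectSum.induction_on with
  | zero => rw [map_zero, zero_comp]; exact isFinSum_zero E K
  | of i f =>
    have : CohDer.homSumToHomCoprod K (fun i : ULift.{v} ℕ => E i.down)
        (DirectSum.of (fun i : ULift.{v} ℕ => K ⟶ E i.down) i f) =
        f ≫ Sigma.ι (fun i : ULift.{v} ℕ => E i.down) i := by
      unfold CohDer.homSumToHomCoprod
      convert DirectSum.toAddMonoid_of (β := fun i : ULift.{v} ℕ => K ⟶ E i.down)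
        (fun i : ULift.{v} ℕ => Preadditive.rightComp K
          (Sigma.ι (fun i : ULift.{v} ℕ => E i.down) i)) i f
      rfl
    rw [this, Category.assoc, he]
    exact isFinSum_ι E i.down f
  | add a b ha hb =>
    rw [map_add, Preadditive.add_comp]
    exact IsFinSum.add ha hb

section Shift

variable [HasShift D ℤ] [∀ n : ℤ, (shiftFunctor D n).Additive]

lemma FS.shift {K : D} (hK : FS K) (n : ℤ) : FS (K⟦n⟧) := by
  intro E _ x
  -- pass to the shift by `-n`
  let e : K ≅ (K⟦n⟧)⟦-n⟧ := ((shiftFunctorCompIsoId D n (-n) (by omega)).app K).symm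
  let c : Cofan (fun k => (E k)⟦-n⟧) :=
    Cofan.mk ((∐ E)⟦-n⟧) (fun k => (shiftFunctor D (-n)).map (Sigma.ι E k))
  have hc : IsColimit c := isColimitCofanMkObjOfIsColimit (shiftFunctor D (-n)) E _ (coproductIsCoproduct E)
  obtain ⟨N, g, hg⟩ := hK.exists_cofan c hc (e.hom ≫ (shiftFunctor D (-n)).map x)
  choose g' hg' using fun k => (shiftFunctor D (-n)).map_surjective (e.inv ≫ g k)
  refine ⟨N, g', ?_⟩
  apply (shiftFunctor D (-n)).map_injective
  rw [← cancel_epi e.hom, hg, Functor.map_sum, Preadditive.comp_sum]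
  refine Finset.sum_congr rfl fun k _ => ?_
  rw [Functor.map_comp, hg', Category.assoc, e.hom_inv_id_assoc]
  rfl

end Shift

section Cx

variable {A : Type u} [Category.{v} A] [Abelian A] [HasDerivedCategory.{w} A]
  [HasColimitsOfShape ℕ A] [HasExactColimitsOfShape ℕ A] [HasCoproductsOfShape ℕ A]
  [HasExactColimitsOfShape (Discrete ℕ) A]

/-- The colimit of a sequence of complexes as a homotopy colimit. -/
lemma isHocolim (L : ℕ ⥤ CochainComplex A ℤ) (c : Cocone L) (hc : IsColimit c) :
    DerLim.IsHocolim (L ⋙ DerivedCategory.Q).obj (tr (L ⋙ DerivedCategory.Q))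
      (DerivedCategory.Q.obj c.pt) (fun n => DerivedCategory.Q.map (c.ι.app n)) := by
  have h1 : PreservesColimit (Discrete.functor L.obj) (DerivedCategory.Q (C := A)) :=
    preservesColimit_of_preserves_colimit_cocone (coproductIsCoproduct L.obj)
      ((isColimitMapCoconeCofanMkEquiv DerivedCategory.Q L.obj _).symm
        (Groth.Agent.PerfB.CoprodDerived.isColimitQCofan L.obj))
  have h2 := Groth.Agent.S0985.result L
  refine isHocolim_of_iso h2 (DerivedCategory.Q.map ((colimit.isColimit L).coconePointUniqueUpToIso hc).hom) _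
    (fun n => ?_)
  rw [← Functor.map_comp]
  congr 1
  exact (colimit.isColimit L).comp_coconePointUniqueUpToIso_hom hc n

/-- Maps from `K` to the colimit of a sequence of complexes factor through a stage. -/
theorem exists_factor {K : DerivedCategory A} (hK : FS K) (L : ℕ ⥤ CochainComplex A ℤ) (c : Cocone L)
    (hc : IsColimit c) (x : K ⟶ DerivedCategory.Q.obj c.pt) :
    ∃ (n : ℕ) (y : K ⟶ DerivedCategory.Q.obj (L.obj n)), y ≫ DerivedCategory.Q.map (c.ι.app n) = x :=
  exists_factor_of_isHocolim (isHocolim L c hc) (C' := K⟦(-1 : ℤ)⟧)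
    ((shiftFunctorCompIsoId (DerivedCategory A) (-1) 1 (by omega)).app K)
    (fun x => hK _ x) (fun x => hK.shift (-1) _ x) x

/-- Maps from `K` to a stage which vanish in the colimit vanish at a later stage. -/
theorem exists_eq_zero {K : DerivedCategory A} (hK : FS K) (L : ℕ ⥤ CochainComplex A ℤ) (c : Cocone L)
    (hc : IsColimit c) (n : ℕ) (y : K ⟶ DerivedCategory.Q.obj (L.obj n))
    (hy : y ≫ DerivedCategory.Q.map (c.ι.app n) = 0) :
    ∃ (m : ℕ) (h : n ≤ m), y ≫ DerivedCategory.Q.map (L.map (homOfLE h)) = 0 :=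
  exists_eq_zero_of_isHocolim (isHocolim L c hc) (fun x => hK _ x) y hy

end Cx

end K229.FinSum
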