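import Mathlib.CategoryTheory.Abelian.Refinements
import Mathlib.CategoryTheory.Abelian.Projective.Basic
import Mathlib.CategoryTheory.Preadditive.AdditiveFunctor
import Mathlib.CategoryTheory.ObjectProperty.ClosedUnderIsomorphisms
import Mathlib.Algebra.Homology.HomologicalComplexAbelian
import Mathlib.Algebra.Homology.ShortComplex.HomologicalComplex
import Mathlib.Algebra.Homology.Additive
import Mathlib.Algebra.Homology.HomotopyCategory.Acyclic

/-!
# Lifting acyclic complexes of projectives along a functor (abstract version)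

`F : 𝒜 ⥤ ℬ` is an additive functor of abelian categories (think of reduction modulo an ideal) and `P` a
class of projective objects of `𝒜`, satisfying the lifting conditions of `LiftClass`.

* `LiftClass.isIso_of_map`: a morphism between objects of `P` which becomes an isomorphism in `ℬ` is one;
* `LiftClass.exists_acyclic_lift`: bounded above acyclic complexes with terms liftable to `P` lift.
-/

set_option autoImplicit false

universe v₁ v₂ u₁ u₂

open CategoryTheory CategoryTheory.Limits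

namespace K229.LiftAbs

set_option linter.unusedSectionVars false

variable {𝒜 : Type u₁} [Category.{v₁} 𝒜] [Abelian 𝒜] {ℬ : Type u₂} [Category.{v₂} ℬ] [Abelian ℬ]

/-- The lifting conditions. -/
structure LiftClass (F : 𝒜 ⥤ ℬ) (P : ObjectProperty 𝒜) : Prop where
  iso : ∀ {X Y : 𝒜}, (X ≅ Y) → P X → P Y
  proj : ∀ {X : 𝒜}, P X → Projective X
  projF : ∀ {X : 𝒜}, P X → Projective (F.obj X)
  full : ∀ {X Y : 𝒜}, P X → P Y → ∀ g : F.obj X ⟶ F.obj Y, ∃ f : X ⟶ Y, F.map f = g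
  epi : ∀ {X Y : 𝒜} (f : X ⟶ Y), P X → P Y → Epi (F.map f) → Epi f
  compl : ∀ {X Y : 𝒜}, P X → P (X ⊞ Y) → P Y

namespace LiftClass

variable {F : 𝒜 ⥤ ℬ} [F.Additive] {P : ObjectProperty 𝒜} (h : LiftClass F P)
include h

lemma isZero_of_map {X : 𝒜} (hX : P X) (hF : IsZero (F.obj X)) : IsZero X := by
  have h1 : Epi (F.map (0 : X ⟶ X)) := ⟨fun _ _ _ => hF.eq_of_src _ _⟩
  have := h.epi _ hX hX h1
  rw [IsZero.iff_id_eq_zero, ← cancel_epi (0 : X ⟶ X)]
  simp

/-- The kernel of a morphism of objects of `P` which is an epimorphism in `ℬ`. -/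
lemma exists_split {X Y : 𝒜} (hX : P X) (hY : P Y) (f : X ⟶ Y) (hf : Epi (F.map f)) :
    ∃ (K : 𝒜) (k : K ⟶ X) (r : X ⟶ K) (s : Y ⟶ X), P K ∧ k ≫ f = 0 ∧ s ≫ f = 𝟙 Y ∧ k ≫ r = 𝟙 K ∧
      s ≫ r = 0 ∧ r ≫ k + f ≫ s = 𝟙 X := by
  have := h.epi f hX hY hf
  have := h.proj hY
  let s : Y ⟶ X := Projective.factorThru (𝟙 Y) f
  have hs : s ≫ f = 𝟙 Y := Projective.factorThru_comp _ _
  let r : X ⟶ kernel f := kernel.lift f (𝟙 X - f ≫ s) (by simp [hs])
  have hr : r ≫ kernel.ι f = 𝟙 X - f ≫ s := kernel.lift_ι _ _ _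
  have h1 : kernel.ι f ≫ r = 𝟙 _ := by
    rw [← cancel_mono (kernel.ι f), Category.assoc, hr]
    simp
  have h2 : s ≫ r = 0 := by
    rw [← cancel_mono (kernel.ι f), Category.assoc, hr, Preadditive.comp_sub, reassoc_of% hs]
    simp
  refine ⟨kernel f, kernel.ι f, r, s, ?_, kernel.condition f, hs, h1, h2, by rw [hr]; abel⟩
  refine h.compl hY (h.iso ?_ hX)
  exact
    { hom := biprod.lift f r
      inv := biprod.desc s (kernel.ι f)
      hom_inv_id := by rw [biprod.lift_desc, hr]; abel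
      inv_hom_id := by
        ext
        · simp [hs]
        · simp [h2]
        · simp
        · simp [h1] }

/-- A morphism of objects of `P` which becomes an isomorphism in `ℬ` is an isomorphism. -/
theorem isIso_of_map {X Y : 𝒜} (hX : P X) (hY : P Y) (f : X ⟶ Y) (hf : IsIso (F.map f)) :
    IsIso f := by
  obtain ⟨K, k, r, s, hK, hk, hs, hkr, hsr, htot⟩ := h.exists_split hX hY f inferInstance
  have h1 : F.map k = 0 := by
    rw [← cancel_mono (F.map f), ← F.map_comp, hk, F.map_zero, zero_comp]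
  have h2 : IsZero K := by
    refine h.isZero_of_map hK ?_
    rw [IsZero.iff_id_eq_zero, ← F.map_id, ← hkr, F.map_comp, h1, zero_comp]
  refine ⟨s, ?_, hs⟩
  rw [← htot, h2.eq_of_tgt r 0, zero_comp, zero_add]

/-- Objects of `P` with isomorphic images are isomorphic. -/
theorem nonempty_iso {X Y : 𝒜} (hX : P X) (hY : P Y) (e : F.obj X ≅ F.obj Y) :
    ∃ e' : X ≅ Y, F.map e'.hom = e.hom := by
  obtain ⟨f, hf⟩ := h.full hX hY e.hom
  have := h.isIso_of_map hX hY f (by rw [hf]; infer_instance)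
  exact ⟨asIso f, hf⟩

/-- A morphism of objects of `P` which is a split monomorphism in `ℬ` is a split monomorphism with
complement in `P`. -/
theorem exists_split_mono {X Y : 𝒜} (hX : P X) (hY : P Y) (f : X ⟶ Y) (ρ : F.obj Y ⟶ F.obj X)
    (hρ : F.map f ≫ ρ = 𝟙 _) :
    ∃ (C : 𝒜) (c : Y ⟶ C) (r : Y ⟶ X) (s : C ⟶ Y), P C ∧ f ≫ c = 0 ∧ s ≫ c = 𝟙 C ∧ f ≫ r = 𝟙 X ∧
      s ≫ r = 0 ∧ r ≫ f + c ≫ s = 𝟙 Y := by
  obtain ⟨r₀, hr₀⟩ := h.full hY hX ρ
  have h1 : IsIso (f ≫ r₀) := h.isIso_of_map hX hX _ (by rw [F.map_comp, hr₀, hρ]; infer_instance)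
  obtain ⟨r, hr⟩ : ∃ r : Y ⟶ X, f ≫ r = 𝟙 X := ⟨r₀ ≫ inv (f ≫ r₀), by simp [← Category.assoc]⟩
  have hepi : Epi (F.map r) := by
    have : Epi (F.map f ≫ F.map r) := by
      rw [← F.map_comp, hr, F.map_id]; infer_instance
    exact epi_of_epi (F.map f) _
  obtain ⟨C, s, c, f', hC, h2, h3, h4, h5, h6⟩ := h.exists_split hY hX r hepi
  -- `f'` is another section of `r`; correct `c`
  refine ⟨C, c - r ≫ f ≫ c, r, s, hC, ?_, ?_, hr, h2, ?_⟩
  · rw [Preadditive.comp_sub, reassoc_of% hr, sub_self]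
  · rw [Preadditive.comp_sub, h4, reassoc_of% h2, zero_comp, sub_zero]
  · have h7 : c ≫ s = 𝟙 Y - r ≫ f' := by rw [← h6]; abel
    have h8 : f ≫ c ≫ s = f - f' := by
      rw [h7, Preadditive.comp_sub, Category.comp_id, reassoc_of% hr]
    rw [Preadditive.sub_comp, Category.assoc, Category.assoc, h8, h7, Preadditive.comp_sub]
    abel

/-- Transport of the lifting property. -/
def Lifts (F : 𝒜 ⥤ ℬ) (P : ObjectProperty 𝒜) (Y : ℬ) : Prop := ∃ X : 𝒜, P X ∧ Nonempty (F.obj X ≅ Y)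

omit [F.Additive] in
lemma projective_of_lifts {Y : ℬ} (hY : Lifts F P Y) : Projective Y := by
  obtain ⟨X, hX, ⟨e⟩⟩ := hY
  have := h.projF hX
  exact Projective.of_iso e this

/-- One step of the lifting of acyclic complexes. -/
lemma lifts_kernel {X : 𝒜} (hX : P X) {Z : 𝒜} (hZ : P Z) {E C D : ℬ} (e : F.obj X ≅ E)
    (e' : F.obj Z ≅ C) (g : E ⟶ C) [Epi g] (i : D ⟶ E) [Mono i] (hi : i ≫ g = 0)
    (hex : (ShortComplex.mk i g hi).Exact) :
    ∃ K : 𝒜, P K ∧ Nonempty (F.obj K ≅ D) ∧ Nonempty (X ≅ K ⊞ Z) := by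
  obtain ⟨f, hf⟩ := h.full hX hZ (e.hom ≫ g ≫ e'.inv)
  have hepi : Epi (F.map f) := by rw [hf]; infer_instance
  obtain ⟨K, k, r, s, hK, hk, hs, hkr, hsr, htot⟩ := h.exists_split hX hZ f hepi
  have hk' : (F.map k ≫ e.hom) ≫ g = 0 := by
    rw [← cancel_mono e'.inv, Category.assoc, Category.assoc, ← hf, ← F.map_comp, hk, F.map_zero,
      zero_comp]
  let l : F.obj K ⟶ D := hex.lift (F.map k ≫ e.hom) hk'
  have hl : l ≫ i = F.map k ≫ e.hom := hex.lift_f _ _
  refine ⟨K, hK, ⟨{ hom := l, inv := i ≫ e.inv ≫ F.map r, hom_inv_id := ?_, inv_hom_id := ?_ }⟩,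
    ⟨{ hom := biprod.lift r f
       inv := biprod.desc k s
       hom_inv_id := by rw [biprod.lift_desc, htot]
       inv_hom_id := by ext <;> simp [hkr, hk, hsr, hs] }⟩⟩
  · rw [reassoc_of% hl, Iso.hom_inv_id_assoc, ← F.map_comp, hkr, F.map_id]
  · rw [← cancel_mono i, Category.assoc, Category.assoc, Category.assoc, hl, ← F.map_comp_assoc,
      Category.id_comp]
    have h1 : r ≫ k = 𝟙 X - f ≫ s := by rw [← htot]; abel
    rw [h1, F.map_sub, F.map_id, F.map_comp, hf, Preadditive.sub_comp, Category.id_comp,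
      Preadditive.comp_sub, Iso.inv_hom_id, Preadditive.comp_sub, Category.comp_id]
    simp [reassoc_of% hi]

end LiftClass

end K229.LiftAbs
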