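import Groth.Agent.DRing.K229.LiftAbs
import Mathlib.Algebra.Homology.DerivedCategory.Basic

/-!
# Lifting bounded above acyclic complexes (abstract version)
-/

set_option autoImplicit false

universe v₁ v₂ u₁ u₂

open CategoryTheory CategoryTheory.Limits

namespace K229.LiftAbs

set_option linter.unusedSectionVars false

variable {𝒜 : Type u₁} [Category.{v₁} 𝒜] [Abelian 𝒜] {ℬ : Type u₂} [Category.{v₂} ℬ] [Abelian ℬ]

section Split

lemma exact_split (A B C D : 𝒜) (f : A ⊞ B ⟶ B ⊞ C) (g : B ⊞ C ⟶ C ⊞ D) (w : f ≫ g = 0)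
    (hf : f = biprod.snd ≫ biprod.inl) (hg : g = biprod.snd ≫ biprod.inl) :
    (ShortComplex.mk f g w).Exact := by
  subst hf hg
  rw [ShortComplex.exact_iff_exact_up_to_refinements]
  intro T x hx
  change T ⟶ B ⊞ C at x
  change x ≫ biprod.snd ≫ biprod.inl = 0 at hx
  have h1 : x ≫ (biprod.snd : B ⊞ C ⟶ _) = 0 := by
    have := congrArg (fun t => t ≫ (biprod.fst : C ⊞ D ⟶ _)) hx
    simpa using this
  refine ⟨T, 𝟙 T, inferInstance, (x ≫ biprod.fst) ≫ biprod.inr, ?_⟩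
  change 𝟙 T ≫ x = ((x ≫ biprod.fst) ≫ biprod.inr) ≫ biprod.snd ≫ biprod.inl
  rw [Category.id_comp]
  ext
  · simp
  · simp [h1]

variable (Z : ℤ → 𝒜)

/-- The split acyclic complex with cycles `Z`. -/
noncomputable def splitCx : CochainComplex 𝒜 ℤ :=
  CochainComplex.of (fun i => Z i ⊞ Z (i + 1)) (fun i => biprod.snd ≫ biprod.inl) (fun i => by simp)

lemma splitCx_X (i : ℤ) : (splitCx Z).X i = (Z i ⊞ Z (i + 1)) := rfl

lemma splitCx_d (i : ℤ) : (splitCx Z).d i (i + 1) =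
    (biprod.snd ≫ biprod.inl : Z i ⊞ Z (i + 1) ⟶ Z (i + 1) ⊞ Z (i + 1 + 1)) :=
  CochainComplex.of_d (fun i => Z i ⊞ Z (i + 1)) (fun i => biprod.snd ≫ biprod.inl) i

lemma splitCx_acyclic : (splitCx Z).Acyclic := fun j => by
  obtain ⟨i, rfl⟩ : ∃ i, j = i + 1 := ⟨j - 1, by simp⟩
  rw [HomologicalComplex.exactAt_iff' _ i (i + 1) (i + 1 + 1) (by simp) (by simp)]
  exact exact_split (Z i) (Z (i + 1)) (Z (i + 1 + 1)) (Z (i + 1 + 1 + 1)) _ _ _
    (splitCx_d Z i) (splitCx_d Z (i + 1))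

/-- Assemble an isomorphism `F (Z ⊞ Z') ≅ E`. -/
noncomputable def compIso (F : 𝒜 ⥤ ℬ) [F.Additive] (Z Z' : 𝒜) {E C C' : ℬ} (e : F.obj Z ≅ C)
    (e' : F.obj Z' ≅ C') (i : C ⟶ E) (t : E ⟶ C') (s : C' ⟶ E) (r : E ⟶ C) (hir : i ≫ r = 𝟙 C)
    (hit : i ≫ t = 0) (hst : s ≫ t = 𝟙 C') (hsr : s ≫ r = 0) (htot : r ≫ i + t ≫ s = 𝟙 E) :
    F.obj (Z ⊞ Z') ≅ E where
  hom := F.map biprod.fst ≫ e.hom ≫ i + F.map biprod.snd ≫ e'.hom ≫ s
  inv := r ≫ e.inv ≫ F.map biprod.inl + t ≫ e'.inv ≫ F.map biprod.inr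
  hom_inv_id := by
    have h1 : (F.map (biprod.fst : Z ⊞ Z' ⟶ _) ≫ F.map (biprod.inl : _ ⟶ Z ⊞ Z')) +
        (F.map (biprod.snd : Z ⊞ Z' ⟶ _) ≫ F.map (biprod.inr : _ ⟶ Z ⊞ Z')) =
        𝟙 (F.obj (Z ⊞ Z')) := by
      rw [← F.map_comp, ← F.map_comp, ← F.map_add, biprod.total, F.map_id]
    refine Eq.trans ?_ h1
    simp only [Preadditive.add_comp, Preadditive.comp_add, Category.assoc, reassoc_of% hir,
      reassoc_of% hit, reassoc_of% hst, reassoc_of% hsr, Iso.hom_inv_id_assoc, zero_comp, comp_zero,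
      add_zero, zero_add]
  inv_hom_id := by
    have h1 : F.map (biprod.inl : _ ⟶ Z ⊞ Z') ≫ F.map (biprod.fst : Z ⊞ Z' ⟶ _) = 𝟙 _ := by
      rw [← F.map_comp, biprod.inl_fst, F.map_id]
    have h2 : F.map (biprod.inr : _ ⟶ Z ⊞ Z') ≫ F.map (biprod.snd : Z ⊞ Z' ⟶ _) = 𝟙 _ := by
      rw [← F.map_comp, biprod.inr_snd, F.map_id]
    have h4 : F.map (biprod.inl : _ ⟶ Z ⊞ Z') ≫ F.map (biprod.snd : Z ⊞ Z' ⟶ _) = 0 := by
      rw [← F.map_comp, biprod.inl_snd, F.map_zero]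
    have h5 : F.map (biprod.inr : _ ⟶ Z ⊞ Z') ≫ F.map (biprod.fst : Z ⊞ Z' ⟶ _) = 0 := by
      rw [← F.map_comp, biprod.inr_fst, F.map_zero]
    simp only [Preadditive.add_comp, Preadditive.comp_add, Category.assoc, reassoc_of% h1,
      reassoc_of% h2, reassoc_of% h4, reassoc_of% h5, zero_comp, comp_zero, add_zero, zero_add,
      Iso.inv_hom_id_assoc, htot]

end Split

section CyclesIso

variable (E : CochainComplex ℬ ℤ) (hE : E.Acyclic)

include hE in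
lemma epi_toCycles (i : ℤ) : Epi (E.toCycles i (i + 1)) := by
  have h1 := hE (i + 1)
  rw [HomologicalComplex.exactAt_iff_isZero_homology] at h1
  exact Preadditive.epi_of_isZero_cokernel' _ (E.homologyIsCokernel i (i + 1) (by simp)) h1

lemma iCycles_toCycles (i : ℤ) : E.iCycles i ≫ E.toCycles i (i + 1) = 0 := by
  rw [← cancel_mono (E.iCycles (i + 1))]
  simp

lemma exact_iCycles_toCycles (i : ℤ) :
    (ShortComplex.mk (E.iCycles i) (E.toCycles i (i + 1)) (iCycles_toCycles E i)).Exact := by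
  rw [ShortComplex.exact_iff_exact_up_to_refinements]
  intro A x hx
  have hx' : x ≫ E.toCycles i (i + 1) = 0 := hx
  refine ⟨A, 𝟙 A, inferInstance, E.liftCycles x (i + 1) (by simp) ?_, ?_⟩
  · rw [← E.toCycles_i, reassoc_of% hx', zero_comp]
  · simp

end CyclesIso

namespace LiftClass

variable {F : 𝒜 ⥤ ℬ} [F.Additive] {P : ObjectProperty 𝒜} (h : LiftClass F P)
include h

/-- The cycles of a bounded above acyclic complex with liftable terms are liftable. -/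
lemma lifts_cycles (E : CochainComplex ℬ ℤ) (b : ℤ) (hb : ∀ i, b < i → IsZero (E.X i))
    (hE : E.Acyclic) (hL : ∀ i, Lifts F P (E.X i)) (n : ℕ) :
    ∀ i : ℤ, b < i + n → Lifts F P (E.cycles i) := by
  induction n with
  | zero =>
    intro i hi
    obtain ⟨X, hX, ⟨e⟩⟩ := hL i
    have h1 : IsZero (E.X i) := hb i (by simpa using hi)
    have h2 : IsZero (E.cycles i) := IsZero.of_mono (E.iCycles i) h1
    exact ⟨X, hX, ⟨(h1.of_iso e).iso h2⟩⟩
  | succ n ih =>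
    intro i hi
    obtain ⟨Z, hZ, ⟨e'⟩⟩ := ih (i + 1) (by push_cast at hi; omega)
    obtain ⟨X, hX, ⟨e⟩⟩ := hL i
    have := epi_toCycles E hE i
    obtain ⟨K, hK, hK', -⟩ := h.lifts_kernel hX hZ e e' (E.toCycles i (i + 1)) (E.iCycles i)
      (iCycles_toCycles E i) (exact_iCycles_toCycles E i)
    exact ⟨K, hK, hK'⟩

/-- Bounded above acyclic complexes with terms liftable to `P` lift to acyclic complexes. -/
theorem exists_acyclic_lift (E : CochainComplex ℬ ℤ) (b : ℤ) (hb : ∀ i, b < i → IsZero (E.X i))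
    (hE : E.Acyclic) (hL : ∀ i, Lifts F P (E.X i)) :
    ∃ Q : CochainComplex 𝒜 ℤ, (∀ i, b < i → IsZero (Q.X i)) ∧ Q.Acyclic ∧ (∀ i, P (Q.X i)) ∧
      Nonempty ((F.mapHomologicalComplex (ComplexShape.up ℤ)).obj Q ≅ E) := by
  have hcyc : ∀ i, Lifts F P (E.cycles i) := fun i =>
    h.lifts_cycles E b hb hE hL (b + 1 - i).toNat i (by have := Int.self_le_toNat (b + 1 - i); omega)
  choose Z hZ e using hcyc
  replace e := fun i => (e i).some
  have hP : ∀ i, P (Z i ⊞ Z (i + 1)) := fun i => by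
    obtain ⟨X, hX, ⟨e1⟩⟩ := hL i
    have := epi_toCycles E hE i
    obtain ⟨K, hK, ⟨e2⟩, ⟨e3⟩⟩ := h.lifts_kernel hX (hZ (i + 1)) e1 (e (i + 1)) (E.toCycles i (i + 1))
      (E.iCycles i) (iCycles_toCycles E i) (exact_iCycles_toCycles E i)
    obtain ⟨e4, -⟩ := h.nonempty_iso hK (hZ i) (e2 ≪≫ (e i).symm)
    exact h.iso (e3 ≪≫ biprod.mapIso e4 (Iso.refl _)) hX
  have hsec : ∀ i, ∃ s : E.cycles (i + 1) ⟶ E.X i, s ≫ E.toCycles i (i + 1) = 𝟙 _ := fun i => by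
    have := epi_toCycles E hE i
    have : Projective (E.cycles (i + 1)) := h.projective_of_lifts ⟨Z (i + 1), hZ (i + 1), ⟨e (i + 1)⟩⟩
    exact ⟨Projective.factorThru (𝟙 _) (E.toCycles i (i + 1)), Projective.factorThru_comp _ _⟩
  choose s hs using hsec
  have hret : ∀ i, ∃ r : E.X i ⟶ E.cycles i, r ≫ E.iCycles i = 𝟙 _ - E.toCycles i (i + 1) ≫ s i :=
    fun i => by
    have h1 : (𝟙 _ - E.toCycles i (i + 1) ≫ s i) ≫ E.d i (i + 1) = 0 := by
      have h2 : s i ≫ E.d i (i + 1) = E.iCycles (i + 1) := by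
        rw [← E.toCycles_i, reassoc_of% (hs i)]
      rw [Preadditive.sub_comp, Category.id_comp, Category.assoc, h2, E.toCycles_i, sub_self]
    exact ⟨E.liftCycles _ (i + 1) (by simp) h1, by simp⟩
  choose r hr using hret
  have hir : ∀ i, E.iCycles i ≫ r i = 𝟙 _ := fun i => by
    rw [← cancel_mono (E.iCycles i), Category.assoc, hr, Preadditive.comp_sub,
      reassoc_of% (iCycles_toCycles E i)]
    simp
  have hsr : ∀ i, s i ≫ r i = 0 := fun i => by
    rw [← cancel_mono (E.iCycles i), Category.assoc, hr, Preadditive.comp_sub, reassoc_of% (hs i)]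
    simp
  let φ : ∀ i, F.obj (Z i ⊞ Z (i + 1)) ≅ E.X i := fun i =>
    compIso F (Z i) (Z (i + 1)) (e i) (e (i + 1)) (E.iCycles i) (E.toCycles i (i + 1)) (s i) (r i)
      (hir i) (iCycles_toCycles E i) (hs i) (hsr i) (by rw [hr]; abel)
  refine ⟨splitCx Z, fun i hi => ?_, splitCx_acyclic Z, hP,
    ⟨HomologicalComplex.Hom.isoOfComponents φ ?_⟩⟩
  · have h1 : ∀ j, b < j → IsZero (Z j) := fun j hj => h.isZero_of_map (hZ j)
      ((IsZero.of_mono (E.iCycles j) (hb j hj)).of_iso (e j))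
    have h2 : IsZero (Z i ⊞ Z (i + 1)) := by
      rw [biprod_isZero_iff]
      exact ⟨h1 i hi, h1 (i + 1) (by omega)⟩
    exact h2
  · rintro i j hij
    obtain rfl : i + 1 = j := hij
    have h2 : s i ≫ E.d i (i + 1) = E.iCycles (i + 1) := by
      rw [← E.toCycles_i, reassoc_of% (hs i)]
    have h1 : F.map (biprod.inl : _ ⟶ Z (i + 1) ⊞ Z (i + 1 + 1)) ≫
        F.map (biprod.fst : Z (i + 1) ⊞ Z (i + 1 + 1) ⟶ _) = 𝟙 _ := by
      rw [← F.map_comp, biprod.inl_fst, F.map_id]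
    have h4 : F.map (biprod.inl : _ ⟶ Z (i + 1) ⊞ Z (i + 1 + 1)) ≫
        F.map (biprod.snd : Z (i + 1) ⊞ Z (i + 1 + 1) ⟶ _) = 0 := by
      rw [← F.map_comp, biprod.inl_snd, F.map_zero]
    have key : ∀ d : Z i ⊞ Z (i + 1) ⟶ Z (i + 1) ⊞ Z (i + 1 + 1), d = biprod.snd ≫ biprod.inl →
        (φ i).hom ≫ E.d i (i + 1) = F.map d ≫ (φ (i + 1)).hom := by
      rintro d rfl
      rw [F.map_comp]
      simp only [φ, compIso, Preadditive.add_comp, Preadditive.comp_add, Category.assoc,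
        reassoc_of% h1, reassoc_of% h4, zero_comp, comp_zero, add_zero, zero_add, h2,
        HomologicalComplex.iCycles_d]
    exact key _ (splitCx_d Z i)

end LiftClass

end K229.LiftAbs
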