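import Groth.Agent.DRing.K229.LiftAcyc
import Groth.Agent.Cohder.CoconeSES
import Mathlib.Algebra.Homology.DerivedCategory.ShortExact
import Mathlib.Algebra.Homology.HomotopyCategory.DegreewiseSplit
import Mathlib.Algebra.Homology.HomotopyCategory.KProjective
import Mathlib.CategoryTheory.Triangulated.Pretriangulated

/-!
# Lifting representatives of an object of the derived category (abstract version)
-/

set_option autoImplicit false

universe w v₁ v₂ u₁ u₂

open CategoryTheory CategoryTheory.Limits CochainComplex CategoryTheory.Pretriangulated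
open scoped ZeroObject

namespace K229.LiftAbs

set_option linter.unusedSectionVars false

variable {𝒜 : Type u₁} [Category.{v₁} 𝒜] [Abelian 𝒜] {ℬ : Type u₂} [Category.{v₂} ℬ] [Abelian ℬ]

/-- Two right exact presentations with isomorphic first maps have isomorphic cokernels. -/
lemma nonempty_iso_X₃ {C : Type*} [Category* C] [Abelian C] {S T : ShortComplex C} (hS : S.Exact)
    (hT : T.Exact) [Epi S.g] [Epi T.g] (e₁ : S.X₁ ≅ T.X₁) (e₂ : S.X₂ ≅ T.X₂)
    (w : S.f ≫ e₂.hom = e₁.hom ≫ T.f) : Nonempty (S.X₃ ≅ T.X₃) := by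
  have w1 : S.f ≫ e₂.hom ≫ T.g = 0 := by rw [reassoc_of% w, T.zero, comp_zero]
  have w2 : T.f ≫ e₂.inv ≫ S.g = 0 := by
    rw [← cancel_epi e₁.hom, ← reassoc_of% w, Iso.hom_inv_id_assoc, S.zero, comp_zero]
  let u := hS.desc (e₂.hom ≫ T.g) w1
  let v := hT.desc (e₂.inv ≫ S.g) w2
  have hu : S.g ≫ u = e₂.hom ≫ T.g := hS.g_desc _ _
  have hv : T.g ≫ v = e₂.inv ≫ S.g := hT.g_desc _ _
  exact ⟨⟨u, v, by rw [← cancel_epi S.g, reassoc_of% hu, hv]; simp,
    by rw [← cancel_epi T.g, reassoc_of% hv, hu]; simp⟩⟩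

lemma isZero_Q_obj {C : Type*} [Category* C] [Abelian C] [HasDerivedCategory.{w} C]
    (K : CochainComplex C ℤ) (hK : K.Acyclic) : IsZero (DerivedCategory.Q.obj K) := by
  have h0 : ∀ i, IsZero (HomologicalComplex.homology (0 : CochainComplex C ℤ) i) := fun i =>
    (HomologicalComplex.homologyFunctor C (ComplexShape.up ℤ) i).map_isZero (isZero_zero _)
  have : QuasiIso (0 : K ⟶ 0) := by
    rw [quasiIso_iff]
    intro i
    rw [quasiIsoAt_iff_isIso_homologyMap]
    have h1 : IsZero (HomologicalComplex.homology K i) := by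
      rw [← HomologicalComplex.exactAt_iff_isZero_homology]
      exact hK i
    exact ⟨0, h1.eq_of_src _ _, (h0 i).eq_of_src _ _⟩
  exact IsZero.of_iso (DerivedCategory.Q.map_isZero (isZero_zero _))
    (asIso (DerivedCategory.Q.map (0 : K ⟶ 0)))

namespace LiftClass

variable {F : 𝒜 ⥤ ℬ} [F.Additive] {P : ObjectProperty 𝒜} (h : LiftClass F P)
include h

/-- Morphisms from a complex with terms in `P` to a bounded above acyclic complex lift. -/
lemma exists_lift_map (K Q : CochainComplex 𝒜 ℤ) (c : ℤ) (hKb : ∀ i, c < i → IsZero (K.X i))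
    (hK : ∀ i, P (K.X i)) (hQ : ∀ i, P (Q.X i))
    (hQa : ((F.mapHomologicalComplex (ComplexShape.up ℤ)).obj Q).Acyclic)
    (α : (F.mapHomologicalComplex (ComplexShape.up ℤ)).obj K ⟶
      (F.mapHomologicalComplex (ComplexShape.up ℤ)).obj Q) :
    ∃ β : K ⟶ Q, (F.mapHomologicalComplex (ComplexShape.up ℤ)).map β = α := by
  have hFK : ∀ i, Projective (((F.mapHomologicalComplex (ComplexShape.up ℤ)).obj K).X i) := fun i =>
    h.projF (hK i)
  have hle : CochainComplex.IsStrictlyLE ((F.mapHomologicalComplex (ComplexShape.up ℤ)).obj K) c := by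
    rw [CochainComplex.isStrictlyLE_iff]
    exact fun i hi => F.map_isZero (hKb i hi)
  have : CochainComplex.IsKProjective ((F.mapHomologicalComplex (ComplexShape.up ℤ)).obj K) :=
    CochainComplex.isKProjective_of_projective _ c
  let t : Homotopy α 0 := CochainComplex.IsKProjective.homotopyZero α hQa
  have hlift : ∀ i j, ∃ f : K.X i ⟶ Q.X j, F.map f = t.hom i j := fun i j =>
    h.full (hK i) (hQ j) _
  choose f hf using hlift
  refine ⟨Homotopy.nullHomotopicMap' (fun i j _ => f i j), ?_⟩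
  rw [Homotopy.map_nullHomotopicMap']
  ext i
  have h1 := t.comm i
  rw [dNext_eq t.hom (show (ComplexShape.up ℤ).Rel i (i + 1) by simp),
    prevD_eq t.hom (show (ComplexShape.up ℤ).Rel (i - 1) i by simp)] at h1
  rw [Homotopy.nullHomotopicMap'_f (show (ComplexShape.up ℤ).Rel (i - 1) i by simp)
    (show (ComplexShape.up ℤ).Rel i (i + 1) by simp), h1]
  simp [hf]

variable [HasDerivedCategory.{w} 𝒜]

/-- The main lifting theorem. -/
theorem exists_lift (hsum : ∀ {X Y : 𝒜}, P X → P Y → P (X ⊞ Y)) (K : CochainComplex 𝒜 ℤ) (c : ℤ)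
    (hKb : ∀ i, c < i → IsZero (K.X i)) (hK : ∀ i, P (K.X i)) (E : CochainComplex ℬ ℤ) (b : ℤ)
    (hEb : ∀ i, b < i → IsZero (E.X i)) (hE : ∀ i, Lifts F P (E.X i))
    (δ : E ⟶ (F.mapHomologicalComplex (ComplexShape.up ℤ)).obj K) [QuasiIso δ] :
    ∃ (M : CochainComplex 𝒜 ℤ) (b' : ℤ), (∀ i, b' < i → IsZero (M.X i)) ∧ (∀ i, P (M.X i)) ∧
      Nonempty (DerivedCategory.Q.obj M ≅ DerivedCategory.Q.obj K) ∧
      Nonempty ((F.mapHomologicalComplex (ComplexShape.up ℤ)).obj M ≅ E) := by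
  -- the cone of `δ` and its lift
  have hXiso : ∀ i, Nonempty ((mappingCone δ).X i ≅ (E.X (i + 1) ⊞ F.obj (K.X i))) := fun i =>
    ⟨HomologicalComplex.homotopyCofiber.XIsoBiprod δ i (i + 1) rfl⟩
  have hCb : ∀ i, max b c < i → IsZero ((mappingCone δ).X i) := fun i hi => by
    obtain ⟨e⟩ := hXiso i
    refine IsZero.of_iso ?_ e
    rw [biprod_isZero_iff]
    exact ⟨hEb _ (by omega), F.map_isZero (hKb _ (by omega))⟩
  have hCL : ∀ i, Lifts F P ((mappingCone δ).X i) := fun i => by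
    obtain ⟨e⟩ := hXiso i
    obtain ⟨X, hX, ⟨e'⟩⟩ := hE (i + 1)
    exact ⟨X ⊞ K.X i, hsum hX (hK i),
      ⟨compIso F X (K.X i) e' (Iso.refl _) biprod.inl biprod.snd biprod.inr biprod.fst (by simp)
        (by simp) (by simp) (by simp) (by simp) ≪≫ e.symm⟩⟩
  have hCa : (mappingCone δ).Acyclic :=
    (Groth.Agent.Cohder.CoconeSES.acyclic_mappingCone_iff δ).2 inferInstance
  obtain ⟨Q, hQb, hQa, hQP, ⟨e⟩⟩ := h.exists_acyclic_lift (mappingCone δ) (max b c) hCb hCa hCL
  -- lift the inclusion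
  have hFQa : ((F.mapHomologicalComplex (ComplexShape.up ℤ)).obj Q).Acyclic := fun i => by
    rw [HomologicalComplex.exactAt_iff_isZero_homology]
    have h1 := hCa i
    rw [HomologicalComplex.exactAt_iff_isZero_homology] at h1
    exact IsZero.of_iso h1 ((HomologicalComplex.homologyFunctor _ _ i).mapIso e)
  obtain ⟨β, hβ⟩ := h.exists_lift_map K Q c hKb hK hQP hFQa (mappingCone.inr δ ≫ e.inv)
  have hβi : ∀ i, F.map (β.f i) = (mappingCone.inr δ).f i ≫ e.inv.f i := fun i => by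
    have := congrArg (fun t => HomologicalComplex.Hom.f t i) hβ
    exact this
  have hinv : ∀ i, e.inv.f i ≫ e.hom.f i = 𝟙 _ := fun i => by
    rw [← HomologicalComplex.comp_f, Iso.inv_hom_id, HomologicalComplex.id_f]
  have hsplit : ∀ i, ∃ (C : 𝒜) (c : Q.X i ⟶ C) (r : Q.X i ⟶ K.X i) (s : C ⟶ Q.X i), P C ∧
      β.f i ≫ c = 0 ∧ s ≫ c = 𝟙 C ∧ β.f i ≫ r = 𝟙 _ ∧ s ≫ r = 0 ∧ r ≫ β.f i + c ≫ s = 𝟙 _ := fun i => by
    refine h.exists_split_mono (hK i) (hQP i) (β.f i)
      (e.hom.f i ≫ (mappingCone.snd δ).v i i (add_zero i)) ?_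
    have key : ((mappingCone.inr δ).f i ≫ e.inv.f i) ≫ e.hom.f i ≫
        (mappingCone.snd δ).v i i (add_zero i) = 𝟙 _ := by
      rw [Category.assoc, reassoc_of% (hinv i), mappingCone.inr_f_snd_v]
    exact (congrArg (fun t => t ≫ e.hom.f i ≫ (mappingCone.snd δ).v i i (add_zero i)) (hβi i)).trans key
  choose C cc r s hC h1 h2 h3 h4 h5 using hsplit
  -- the cokernel
  let S : ShortComplex (CochainComplex 𝒜 ℤ) := ShortComplex.mk β (cokernel.π β) (cokernel.condition β)
  have hSe : S.Exact := ShortComplex.exact_of_g_is_cokernel _ (cokernelIsCokernel β)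
  have hsplit' : ∀ i, ∃ (ρ : Q.X i ⟶ K.X i) (σ : (cokernel β).X i ⟶ Q.X i) (ε : (cokernel β).X i ≅ C i),
      β.f i ≫ ρ = 𝟙 _ ∧ σ ≫ (cokernel.π β).f i = 𝟙 _ ∧ ρ ≫ β.f i + (cokernel.π β).f i ≫ σ = 𝟙 _ := fun i => by
    have hSi : (S.map (HomologicalComplex.eval 𝒜 (ComplexShape.up ℤ) i)).Exact :=
      hSe.map_of_epi_of_preservesCokernel _ (by infer_instance) inferInstance
    have hg : Epi ((S.map (HomologicalComplex.eval 𝒜 (ComplexShape.up ℤ) i)).g) := by
      change Epi ((cokernel.π β).f i)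
      infer_instance
    let a : (cokernel β).X i ⟶ C i := hSi.desc (cc i) (h1 i)
    have ha : (cokernel.π β).f i ≫ a = cc i := hSi.g_desc _ _
    let σ : (cokernel β).X i ⟶ Q.X i := hSi.desc (𝟙 _ - r i ≫ β.f i) (by
      change β.f i ≫ (𝟙 _ - r i ≫ β.f i) = 0
      rw [Preadditive.comp_sub, reassoc_of% (h3 i), Category.comp_id, sub_self])
    have hσ : (cokernel.π β).f i ≫ σ = 𝟙 _ - r i ≫ β.f i := hSi.g_desc _ _
    have hβπ : β.f i ≫ (cokernel.π β).f i = 0 := by
      rw [← HomologicalComplex.comp_f, cokernel.condition, HomologicalComplex.zero_f]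
    have hepi : Epi ((cokernel.π β).f i) := hg
    have hσπ : σ ≫ (cokernel.π β).f i = 𝟙 _ := by
      rw [← cancel_epi ((cokernel.π β).f i), reassoc_of% hσ, Preadditive.sub_comp, Category.assoc,
        hβπ, comp_zero, sub_zero]
      simp
    refine ⟨r i, σ, ⟨a, s i ≫ (cokernel.π β).f i, ?_, ?_⟩, h3 i, hσπ, by rw [hσ]; abel⟩
    · rw [← cancel_epi ((cokernel.π β).f i), reassoc_of% ha]
      have h6 : cc i ≫ s i = 𝟙 _ - r i ≫ β.f i := by rw [← h5 i]; abel
      rw [reassoc_of% h6, Preadditive.sub_comp, Category.assoc, hβπ, comp_zero, sub_zero]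
      simp
    · rw [Category.assoc, ha, h2]
  choose ρ σ ε h6 h7 h8 using hsplit'
  -- reduction of the cokernel
  have hβπ : ∀ i, β.f i ≫ (cokernel.π β).f i = 0 := fun i => by
    rw [← HomologicalComplex.comp_f, cokernel.condition, HomologicalComplex.zero_f]
  let T : ShortComplex (CochainComplex ℬ ℤ) :=
    S.map (F.mapHomologicalComplex (ComplexShape.up ℤ))
  have spl : ∀ i, ((S.map (HomologicalComplex.eval 𝒜 (ComplexShape.up ℤ) i))).Splitting := fun i =>
    { r := ρ i
      s := σ i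
      f_r := h6 i
      s_g := h7 i
      id := h8 i }
  have hT : ∀ i, (T.map (HomologicalComplex.eval ℬ (ComplexShape.up ℤ) i)).ShortExact := fun i =>
    ((spl i).map F).shortExact
  have hTse := HomologicalComplex.shortExact_of_degreewise_shortExact T hT
  let U := mappingCone.triangleRotateShortComplex δ
  have hUse : U.ShortExact := HomologicalComplex.shortExact_of_degreewise_shortExact U
    (fun i => (mappingCone.triangleRotateShortComplexSplitting δ i).shortExact)
  have : Epi T.g := hTse.epi_g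
  have : Epi U.g := hUse.epi_g
  obtain ⟨e3⟩ : Nonempty (T.X₃ ≅ U.X₃) := nonempty_iso_X₃ hTse.exact hUse.exact (Iso.refl _) e (by
    change (F.mapHomologicalComplex (ComplexShape.up ℤ)).map β ≫ e.hom = 𝟙 _ ≫ mappingCone.inr δ
    rw [hβ, Category.assoc, Iso.inv_hom_id, Category.comp_id, Category.id_comp])
  have hSse : S.ShortExact := HomologicalComplex.shortExact_of_degreewise_shortExact S
    (fun i => (spl i).shortExact)
  refine ⟨(cokernel β)⟦(-1 : ℤ)⟧, max b c + 1, fun i hi => ?_, fun i => ?_, ?_, ?_⟩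
  · have h9 : IsZero (Q.X (i + (-1))) := hQb _ (by omega)
    have h10 : IsZero ((cokernel β).X (i + (-1))) := IsZero.of_epi ((cokernel.π β).f (i + (-1))) h9
    exact h10
  · exact h.iso (ε (i + (-1))).symm (hC (i + (-1)))
  · have hd := DerivedCategory.triangleOfSES_distinguished hSse
    have hz : IsZero (DerivedCategory.triangleOfSES hSse).obj₂ := by
      change IsZero (DerivedCategory.Q.obj Q)
      exact isZero_Q_obj Q hQa
    have hiso : IsIso (DerivedCategory.triangleOfSES hSse).mor₃ := (Triangle.isZero₂_iff_isIso₃ _ hd).1 hz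
    have e4 : DerivedCategory.Q.obj (cokernel β) ≅ (DerivedCategory.Q.obj K)⟦(1 : ℤ)⟧ :=
      @asIso _ _ _ _ (DerivedCategory.triangleOfSES hSse).mor₃ hiso
    exact ⟨(DerivedCategory.Q.commShiftIso (-1 : ℤ)).app (cokernel β) ≪≫
      (CategoryTheory.shiftFunctor _ (-1 : ℤ)).mapIso e4 ≪≫ (shiftShiftNeg _ (1 : ℤ))⟩
  · have e5 : (F.mapHomologicalComplex (ComplexShape.up ℤ)).obj (cokernel β) ≅ E⟦(1 : ℤ)⟧ := e3
    exact ⟨((F.mapHomologicalComplex (ComplexShape.up ℤ)).commShiftIso (-1 : ℤ)).app (cokernel β) ≪≫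
      (CategoryTheory.shiftFunctor _ (-1 : ℤ)).mapIso e5 ≪≫ (shiftShiftNeg _ (1 : ℤ))⟩

end LiftClass

end K229.LiftAbs
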