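import Groth.Agent.DRing.K229.LiftMod
import Groth.Agent.DRing.K229.LiftRep
import Groth.Agent.LoccohB.LBC2
import Groth.Agent.LoccohB.KDer

/-!
# Lifting representatives of `K ⊗^L R/I` to representatives of `K`
-/

set_option autoImplicit false

universe u

open CategoryTheory CategoryTheory.Limits

attribute [local instance] HasDerivedCategory.standard

namespace K229.LiftD

open LiftAbs LiftMod DerivedCategory

variable {R : Type u} [CommRing R] (I : Ideal R)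

lemma isKProjective_of_proj {A : Type u} [CommRing A] {E : DRing.Cx A} {b : ℤ}
    (hb : DRing.VanishesAbove E b) (hE : ∀ i, Projective (E.X i)) : E.IsKProjective := by
  have : E.IsStrictlyLE b := (CochainComplex.isStrictlyLE_iff _ _).2 fun i hi => hb i hi
  exact CochainComplex.isKProjective_of_projective E b

/-- An isomorphism `E ≅ K ⊗^L R/I` in the derived category is given by a quasi-isomorphism of
complexes `E ⟶ Q/IQ` if `Q` is a bounded above projective complex representing `K`. -/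
theorem exists_quasiIso [DRing.HasLBaseChange (Ideal.Quotient.mk I)] {K : Dual.D R} (Q : DRing.Cx R)
    (c : ℤ) (hQb : DRing.VanishesAbove Q c) (hQ : ∀ i, Projective (Q.X i)) (eQ : DRing.toD Q ≅ K)
    (E : DRing.Cx (R ⧸ I)) (b : ℤ) (hEb : DRing.VanishesAbove E b) (hE : ∀ i, Projective (E.X i))
    (e : DRing.toD E ≅ (DRing.LBaseChange (Ideal.Quotient.mk I)).obj K) :
    ∃ δ : E ⟶ ((red I).mapHomologicalComplex (ComplexShape.up ℤ)).obj Q, QuasiIso δ := by
  have := isKProjective_of_proj hQb hQ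
  have := isKProjective_of_proj hEb hE
  let e' : DRing.toD E ≅ DerivedCategory.Q.obj
      (((red I).mapHomologicalComplex (ComplexShape.up ℤ)).obj Q) :=
    e ≪≫ (DRing.LBaseChange (Ideal.Quotient.mk I)).mapIso eQ.symm ≪≫
      Groth.Agent.LoccohB.LBC.lbcQIso (Ideal.Quotient.mk I) Q
  obtain ⟨δ, hδ⟩ := Groth.Agent.LoccohB.KDer.liftsFrom_Q E e'.hom
  refine ⟨δ, ?_⟩
  rw [← DerivedCategory.isIso_Q_map_iff_quasiIso, hδ]
  infer_instance

/-- Lifting of representatives. -/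
theorem exists_lift [DRing.HasLBaseChange (Ideal.Quotient.mk I)]
    (Pc : ObjectProperty (ModuleCat.{u} R)) [Pc.IsClosedUnderIsomorphisms]
    (h1 : ∀ X : ModuleCat.{u} R, Pc X → Module.Projective R X)
    (h2 : ∀ X Y : ModuleCat.{u} R, Pc X → (Pc (ModuleCat.of R (X × Y)) ↔ Pc Y))
    (h3 : ∀ (X Y : ModuleCat.{u} R) (f : X ⟶ Y), Pc X → Pc Y →
      LinearMap.range f.hom ⊔ I • (⊤ : Submodule R Y) = ⊤ → Function.Surjective f.hom)
    (K : Dual.D R) (hK : ∃ (Q : DRing.Cx R) (c : ℤ), DRing.VanishesAbove Q c ∧ (∀ i : ℤ, Pc (Q.X i)) ∧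
      Nonempty (DRing.toD Q ≅ K))
    (E : DRing.Cx (R ⧸ I)) (b : ℤ) (hEb : DRing.VanishesAbove E b)
    (hEt : ∀ i : ℤ, ∃ X : ModuleCat.{u} R, Pc X ∧ Nonempty (TensorProduct R (R ⧸ I) X ≃ₗ[R ⧸ I] E.X i))
    (hE : Nonempty (DRing.toD E ≅ (DRing.LBaseChange (Ideal.Quotient.mk I)).obj K)) :
    ∃ (P : DRing.Cx R) (b' : ℤ), DRing.VanishesAbove P b' ∧ (∀ i : ℤ, Pc (P.X i)) ∧
      Nonempty (DRing.toD P ≅ K) ∧ Nonempty ((((ModuleCat.extendScalars
        (Ideal.Quotient.mk I)).mapHomologicalComplex (ComplexShape.up ℤ)).obj P) ≅ E) := by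
  have hL := liftClass I Pc h1 (fun X Y hX hXY => (h2 X Y hX).1 hXY) h3
  obtain ⟨Q, c, hQb, hQ, ⟨eQ⟩⟩ := hK
  obtain ⟨e⟩ := hE
  have hEL : ∀ i, LiftClass.Lifts (red I) Pc (E.X i) := fun i => (lifts_iff I Pc (E.X i)).2 (hEt i)
  obtain ⟨δ, hδ⟩ := exists_quasiIso I Q c hQb (fun i => hL.proj (hQ i)) eQ E b hEb
    (fun i => hL.projective_of_lifts (hEL i)) e
  obtain ⟨M, b', hM1, hM2, ⟨e1⟩, e2⟩ := hL.exists_lift
    (fun {X Y} hX hY => Pc.prop_of_iso (ModuleCat.biprodIsoProd X Y).symm ((h2 X Y hX).2 hY))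
    Q c hQb hQ E b hEb hEL δ
  exact ⟨M, b', hM1, hM2, ⟨e1 ≪≫ eQ⟩, e2⟩

end K229.LiftD
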