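import Groth.Agent.DRing.K229.LiftD
import Mathlib.Algebra.Module.StablyFree.Basic
import Mathlib.RingTheory.Jacobson.Ideal
import Mathlib.RingTheory.Nakayama
import Mathlib.LinearAlgebra.FreeModule.Finite.Basic
import Mathlib.RingTheory.TensorProduct.Pi
import Mathlib.LinearAlgebra.TensorProduct.Pi

/-!
# Lifting bounded above complexes of stably free modules modulo an ideal in the Jacobson radical
-/

set_option autoImplicit false

universe u

open CategoryTheory CategoryTheory.Limits
open scoped TensorProduct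

attribute [local instance] HasDerivedCategory.standard

namespace K229.LiftStab

open LiftAbs LiftMod

/-- Finite stably free modules. -/
def stab (A : Type u) [CommRing A] : ObjectProperty (ModuleCat.{u} A) :=
  fun X => Module.Finite A X ∧ Module.IsStablyFree A X

instance (A : Type u) [CommRing A] : (stab A).IsClosedUnderIsomorphisms where
  of_iso e h := by
    obtain ⟨h1, h2⟩ := h
    exact ⟨Module.Finite.equiv e.toLinearEquiv, Module.IsStablyFree.equiv e.toLinearEquiv⟩

section

variable {A : Type u} [CommRing A]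

lemma stab_proj (X : ModuleCat.{u} A) (h : stab A X) : Module.Projective A X := by
  obtain ⟨h1, h2⟩ := h
  infer_instance

lemma stab_prod_iff (X Y : ModuleCat.{u} A) (hX : stab A X) :
    stab A (ModuleCat.of A (X × Y)) ↔ stab A Y := by
  obtain ⟨h1, h2⟩ := hX
  obtain ⟨N, _, _, _, _, h3⟩ := Module.IsStablyFree.exist_free_prod A X
  constructor
  · rintro ⟨h4 : Module.Finite A (X × Y), h5 : Module.IsStablyFree A (X × Y)⟩
    obtain ⟨N', _, _, _, _, h6⟩ := Module.IsStablyFree.exist_free_prod A (X × Y)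
    refine ⟨Module.Finite.of_surjective (LinearMap.snd A X Y) LinearMap.snd_surjective, ?_⟩
    have e : (((X × Y) × N') × N) ≃ₗ[A] (Y × ((X × N) × N')) :=
      { toFun := fun z => (z.1.1.2, ((z.1.1.1, z.2), z.1.2))
        invFun := fun z => (((z.2.1.1, z.1), z.2.2), z.2.1.2)
        left_inv := fun _ => rfl
        right_inv := fun _ => rfl
        map_add' := fun _ _ => rfl
        map_smul' := fun _ _ => rfl }
    have : Module.Free A (Y × ((X × N) × N')) := Module.Free.of_equiv e
    exact Module.IsStablyFree.of_free_prod A Y ((X × N) × N')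
  · rintro ⟨h4, h5⟩
    obtain ⟨N', _, _, _, _, h6⟩ := Module.IsStablyFree.exist_free_prod A Y
    refine ⟨inferInstanceAs (Module.Finite A (X × Y)), ?_⟩
    have e : ((X × N) × (Y × N')) ≃ₗ[A] ((X × Y) × (N × N')) :=
      { toFun := fun z => ((z.1.1, z.2.1), (z.1.2, z.2.2))
        invFun := fun z => ((z.1.1, z.2.1), (z.1.2, z.2.2))
        left_inv := fun _ => rfl
        right_inv := fun _ => rfl
        map_add' := fun _ _ => rfl
        map_smul' := fun _ _ => rfl }
    have : Module.Free A ((X × Y) × (N × N')) := Module.Free.of_equiv e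
    exact Module.IsStablyFree.of_free_prod A (X × Y) (N × N')

lemma surjective_of_range_sup (I : Ideal A) (hI : I ≤ Ideal.jacobson (⊥ : Ideal A))
    (X Y : ModuleCat.{u} A) [Module.Finite A Y] (f : X ⟶ Y)
    (h : LinearMap.range f.hom ⊔ I • (⊤ : Submodule A Y) = ⊤) : Function.Surjective f.hom := by
  rw [← LinearMap.range_eq_top, eq_top_iff]
  exact Submodule.le_of_le_smul_of_le_jacobson_bot Module.Finite.fg_top hI h.ge

end

variable {R : Type u} [CommRing R] (I : Ideal R)

/-- The lifting conditions hold. -/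
theorem liftClass_stab (hI : I ≤ Ideal.jacobson (⊥ : Ideal R)) : LiftClass (red I) (stab R) :=
  liftClass I (stab R) stab_proj (fun X Y hX hXY => (stab_prod_iff X Y hX).1 hXY)
    (fun X Y f _ hY h => by
      obtain ⟨h1, h2⟩ := hY
      exact surjective_of_range_sup I hI X Y f h)

/-- `R^n/I = (R/I)^n`. -/
noncomputable def redPi (n : ℕ) :
    (red I).obj (ModuleCat.of R (Fin n → R)) ≅ ModuleCat.of (R ⧸ I) (Fin n → R ⧸ I) :=
  ((redEquiv I (ModuleCat.of R (Fin n → R))).symm.trans
    (TensorProduct.piScalarRight R (R ⧸ I) (R ⧸ I) (Fin n))).toModuleIso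

lemma exists_pi_iso {A : Type u} [CommRing A] (M : ModuleCat.{u} A) [Module.Finite A M]
    [Module.Free A M] : ∃ n : ℕ, Nonempty (ModuleCat.of A (Fin n → A) ≅ M) := by
  rcases subsingleton_or_nontrivial A with hA | hA
  · have := Module.subsingleton A M
    have : Subsingleton (Fin 0 → A) := inferInstance
    exact ⟨0, ⟨(ModuleCat.isZero_of_subsingleton (ModuleCat.of A (Fin 0 → A))).iso
      (ModuleCat.isZero_of_subsingleton M)⟩⟩
  · exact ⟨Module.finrank A M, ⟨(Module.finBasis A M).equivFun.symm.toModuleIso⟩⟩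

lemma stab_pi (n : ℕ) : stab R (ModuleCat.of R (Fin n → R)) :=
  ⟨inferInstanceAs (Module.Finite R (Fin n → R)), inferInstanceAs (Module.IsStablyFree R (Fin n → R))⟩

/-- Finite stably free modules lift. -/
theorem lifts_of_stab (hI : I ≤ Ideal.jacobson (⊥ : Ideal R)) (E : ModuleCat.{u} (R ⧸ I))
    (hE : stab (R ⧸ I) E) : LiftClass.Lifts (red I) (stab R) E := by
  obtain ⟨h1, h2⟩ := hE
  obtain ⟨N, _, _, _, _, h3⟩ := Module.IsStablyFree.exist_free_prod (R ⧸ I) E
  obtain ⟨n, ⟨en⟩⟩ := exists_pi_iso (ModuleCat.of (R ⧸ I) N)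
  obtain ⟨m, ⟨em⟩⟩ := exists_pi_iso (ModuleCat.of (R ⧸ I) (E × N))
  let g : ModuleCat.of (R ⧸ I) (E × N) ⟶ ModuleCat.of (R ⧸ I) N := ModuleCat.ofHom (LinearMap.snd _ _ _)
  let i : E ⟶ ModuleCat.of (R ⧸ I) (E × N) := ModuleCat.ofHom (LinearMap.inl _ _ _)
  have hg : Epi g := (ModuleCat.epi_iff_surjective g).2 LinearMap.snd_surjective
  have hi : Mono i := (ModuleCat.mono_iff_injective i).2 LinearMap.inl_injective
  have hig : i ≫ g = 0 := by
    ext x
    rfl
  obtain ⟨K, hK, hK', -⟩ := (liftClass_stab I hI).lifts_kernel (stab_pi m) (stab_pi n)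
    (redPi I m ≪≫ em) (redPi I n ≪≫ en) g i hig (by
      rw [ShortComplex.moduleCat_exact_iff_range_eq_ker]
      exact LinearMap.range_inl _ _ _)
  exact ⟨K, hK, hK'⟩

/-- A finite stably free module with free reduction is free. -/
theorem free_of_free_red (hI : I ≤ Ideal.jacobson (⊥ : Ideal R)) (X : ModuleCat.{u} R)
    (hX : stab R X) [Module.Free (R ⧸ I) ((red I).obj X)] [Module.Finite (R ⧸ I) ((red I).obj X)] :
    Module.Free R X := by
  obtain ⟨n, ⟨e⟩⟩ := exists_pi_iso ((red I).obj X)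
  obtain ⟨e', -⟩ := (liftClass_stab I hI).nonempty_iso (stab_pi n) hX (redPi I n ≪≫ e)
  exact Module.Free.of_equiv e'.toLinearEquiv

/-- Lifting of representatives by complexes of finite stably free modules. -/
theorem exists_lift (hI : I ≤ Ideal.jacobson (⊥ : Ideal R))
    [DRing.HasLBaseChange (Ideal.Quotient.mk I)] (K : Dual.D R)
    (hK : DRing.IsPseudoCoherent' R K) (E : DRing.Cx (R ⧸ I)) (b : ℤ) (hEb : DRing.VanishesAbove E b)
    (hEs : ∀ i : ℤ, Module.Finite (R ⧸ I) (E.X i) ∧ Module.IsStablyFree (R ⧸ I) (E.X i))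
    (hE : Nonempty (DRing.toD E ≅ (DRing.LBaseChange (Ideal.Quotient.mk I)).obj K)) :
    ∃ (P : DRing.Cx R) (b' : ℤ), DRing.VanishesAbove P b' ∧
      (∀ i : ℤ, Module.Finite R (P.X i) ∧ Module.IsStablyFree R (P.X i)) ∧
      Nonempty (DRing.toD P ≅ K) ∧ Nonempty ((((ModuleCat.extendScalars (Ideal.Quotient.mk I)).mapHomologicalComplex (ComplexShape.up ℤ)).obj P) ≅ E) ∧
      ∀ i : ℤ, Module.Free (R ⧸ I) (E.X i) → Module.Free R (P.X i) := by
  obtain ⟨Q, c, hQ, hQ', eQ⟩ := hK
  obtain ⟨P, b', h1, h2, h3, ⟨h4⟩⟩ := LiftD.exists_lift I (stab R) stab_proj stab_prod_iff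
    (fun X Y f _ hY h => by
      obtain ⟨h1, h2⟩ := hY
      exact surjective_of_range_sup I hI X Y f h) K
    ⟨Q, c, hQ, fun i => by
      obtain ⟨h5, h6⟩ := hQ' i
      exact ⟨h5, inferInstance⟩, eQ⟩ E b hEb
    (fun i => (lifts_iff I (stab R) (E.X i)).1 (lifts_of_stab I hI (E.X i) (hEs i))) hE
  refine ⟨P, b', h1, h2, h3, ⟨h4⟩, fun i hi => ?_⟩
  have e : (red I).obj (P.X i) ≅ E.X i := (HomologicalComplex.eval _ _ i).mapIso h4
  obtain ⟨h5, h6⟩ := hEs i
  have : Module.Free (R ⧸ I) ((red I).obj (P.X i)) := Module.Free.of_equiv e.symm.toLinearEquiv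
  have : Module.Finite (R ⧸ I) ((red I).obj (P.X i)) := Module.Finite.equiv e.symm.toLinearEquiv
  exact free_of_free_red I hI (P.X i) (h2 i)

end K229.LiftStab
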