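import Groth.Agent.CalgB.PsCohGen
import Groth.Agent.PerfA.IdemCone

/-!
# Direct summands of pseudo-coherent objects are pseudo-coherent
-/

set_option autoImplicit false

open CategoryTheory CategoryTheory.Limits CategoryTheory.Pretriangulated CategoryTheory.Triangulated

universe w v u

namespace K229.PcRetract

open DerivedCategory Groth.Agent.CalgB.PsCohGen Groth.Agent.PerfA.IdemCone

variable {C : Type u} [Category.{v} C] [Abelian C] [HasDerivedCategory.{w} C]

lemma isLE_of_retract {A X : DerivedCategory C} (i : A ⟶ X) (r : X ⟶ A) (h : i ≫ r = 𝟙 A) {b : ℤ}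
    (hX : X.IsLE b) : A.IsLE b := by
  rw [DerivedCategory.isLE_iff] at hX ⊢
  intro n hn
  rw [IsZero.iff_id_eq_zero, ← (homologyFunctor C n).map_id, ← h, Functor.map_comp,
    (hX n hn).eq_of_src ((homologyFunctor C n).map r) 0, comp_zero]

lemma isGE_of_retract {A X : DerivedCategory C} (i : A ⟶ X) (r : X ⟶ A) (h : i ≫ r = 𝟙 A) {b : ℤ}
    (hX : X.IsGE b) : A.IsGE b := by
  rw [DerivedCategory.isGE_iff] at hX ⊢
  intro n hn
  rw [IsZero.iff_id_eq_zero, ← (homologyFunctor C n).map_id, ← h, Functor.map_comp,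
    (hX n hn).eq_of_src ((homologyFunctor C n).map r) 0, comp_zero]

variable {P : ObjectProperty C}

/-- `A ⊞ A⟦1⟧` is pseudo-coherent when `A ⊞ B` is. -/
theorem pc_sum_shift (hP : IsProjClass P) {m : ℤ} (A B : DerivedCategory C)
    (h : PC P m (A ⊞ B)) : PC P m (A ⊞ A⟦(1 : ℤ)⟧) := by
  obtain ⟨Z, g, f, hT⟩ := distinguished_cocone_triangle ((biprod.snd : A ⊞ B ⟶ B) ≫ biprod.inr)
  obtain ⟨e⟩ := cone_idem A B Z g f hT
  exact (PC.obj₃ hP hT rfl (h.mono (by omega)) h).of_iso e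

theorem pc_shift_of_biprod (hP : IsProjClass P) {m b : ℤ} (A : DerivedCategory C)
    (h : PC P m (A ⊞ A⟦(1 : ℤ)⟧)) (hb : A.IsLE b) (k : ℕ) :
    ∀ n : ℕ, b - n - k ≤ m - 1 → PC P m (A⟦(n : ℤ)⟧) := by
  induction k with
  | zero =>
    intro n hn
    refine PC.of_isLE hP ?_
    have : (A⟦(n : ℤ)⟧).IsLE (b - n) := TStructure.t.isLE_shift A b n (b - n) (by omega)
    exact TStructure.t.isLE_of_le (A⟦(n : ℤ)⟧) (b - n) (m - 1) (by omega)
  | succ k ih =>
    intro n hn
    have h1 : PC P m (A⟦((n + 1 : ℕ) : ℤ)⟧) := ih (n + 1) (by push_cast at hn ⊢; omega)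
    have h2 : PC P m ((A ⊞ A⟦(1 : ℤ)⟧)⟦(n : ℤ)⟧) := (h.shift n (m - n) (by omega)).mono (by omega)
    have hT := Triangle.shift_distinguished _ (inr_fst_distinguished A (A⟦(1 : ℤ)⟧)) (n : ℤ)
    refine PC.obj₃ hP hT rfl ?_ h2
    refine (h1.mono (by omega)).of_iso ?_
    exact (shiftFunctorAdd' (DerivedCategory C) 1 (n : ℤ) ((n + 1 : ℕ) : ℤ) (by push_cast; omega)).app A

theorem pc_of_biprod_left (hP : IsProjClass P) {m : ℤ} (A B : DerivedCategory C)
    [HasBinaryBiproduct A B] (h : PC P m (A ⊞ B)) : PC P m A := by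
  obtain ⟨b, hb⟩ := h.exists_isLE
  have hA : A.IsLE b := isLE_of_retract biprod.inl biprod.fst (by simp) hb
  have h0 := pc_shift_of_biprod hP A (pc_sum_shift hP A B h) hA (b - m + 1).toNat 0
    (by have := Int.self_le_toNat (b - m + 1); push_cast; omega)
  exact h0.of_iso ((shiftFunctorZero (DerivedCategory C) ℤ).app A)

theorem pc_of_biprod_right (hP : IsProjClass P) {m : ℤ} (A B : DerivedCategory C)
    [HasBinaryBiproduct A B] (h : PC P m (A ⊞ B)) : PC P m B :=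
  pc_of_biprod_left hP B A (h.of_iso (biprod.braiding A B))

/-- A retract is a direct summand. -/
theorem exists_biprod_of_retract {A X : DerivedCategory C} (i : A ⟶ X) (r : X ⟶ A) (h : i ≫ r = 𝟙 A) :
    ∃ (B : DerivedCategory C) (e : X ≅ A ⊞ B), i ≫ e.hom = biprod.inl := by
  obtain ⟨B, g, f, hT⟩ := distinguished_cocone_triangle i
  have h0 : f = 0 := by
    have h1 : f ≫ i⟦(1 : ℤ)⟧' = 0 := comp_distTriang_mor_zero₃₁ _ hT
    have h2 : i⟦(1 : ℤ)⟧' ≫ r⟦(1 : ℤ)⟧' = 𝟙 _ := by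
      rw [← Functor.map_comp, h, CategoryTheory.Functor.map_id]
    rw [← Category.comp_id f, ← h2, reassoc_of% h1, zero_comp]
  obtain ⟨e, he, -⟩ := exists_iso_binaryBiproduct_of_distTriang _ hT h0
  exact ⟨B, e, he⟩

theorem pc_of_retract (hP : IsProjClass P) {m : ℤ} {A X : DerivedCategory C} (i : A ⟶ X)
    (r : X ⟶ A) (h : i ≫ r = 𝟙 A) (hX : PC P m X) : PC P m A := by
  obtain ⟨B, e, -⟩ := exists_biprod_of_retract i r h
  exact pc_of_biprod_left hP A B (hX.of_iso e)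

end K229.PcRetract
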