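import Groth.Agent.DRing.K229.PcRetract
import Groth.Agent.CalgB.PsCoh
import Groth.Agent.PerfC.RetractPerf
import Groth.Agent.PerfC.RingPerf
import Groth.Agent.LoccohB.PerfTri

/-!
# Direct summands of perfect objects of `D(A)` are perfect
-/

set_option autoImplicit false

universe u

open CategoryTheory CategoryTheory.Limits CategoryTheory.Pretriangulated

attribute [local instance] HasDerivedCategory.standard

namespace K229.PerfRetract

open DerivedCategory Groth.Agent.CalgB.PsCohGen Groth.Agent.CalgB.PsCoh Groth.Agent.PerfC.RingPerf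
  Groth.Agent.PerfC.RetractPerf Groth.Agent.LoccohB

variable {A : Type u} [CommRing A]

/-- Pseudo-coherent objects have bounded above resolutions by finite projectives. -/
lemma forall_PC_fproj_iff (K : Dual.D A) :
    (∀ m, PC (fproj A) m K) ↔ ∃ (E : DRing.Cx A) (b : ℤ), DRing.VanishesAbove E b ∧
      DRing.TermwiseFiniteProjective E ∧ Nonempty (DRing.toD E ≅ K) :=
  forall_PC_iff (isProjClass_fproj A) K

lemma pc_fproj_of_isPerfect {K : Dual.D A} (h : DRing.IsPerfect A K) (m : ℤ) : PC (fproj A) m K := by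
  obtain ⟨E, a, b, h1, h2, ⟨e⟩⟩ := h
  exact (PC.of_bounded (P := fproj A) E a b h1 (fun i => h2 i) m).of_iso e

/-- Direct summands of perfect objects are perfect. -/
theorem isPerfect_of_retract {K X : Dual.D A} (i : K ⟶ X) (r : X ⟶ K) (h : i ≫ r = 𝟙 K)
    (hX : DRing.IsPerfect A X) : DRing.IsPerfect A K := by
  obtain ⟨F, c, hF, hF', ⟨eF⟩⟩ := (forall_PC_fproj_iff K).1
    (fun m => K229.PcRetract.pc_of_retract (isProjClass_fproj A) i r h (pc_fproj_of_isPerfect hX m))
  obtain ⟨E, a, b, hE, hE', ⟨eE⟩⟩ := hX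
  have hFp : F.IsKProjective := isKProjective hF fun i => (hF' i).2
  have hEp : E.IsKProjective := isKProjective (fun i hi => hE i (Or.inr hi)) fun i => (hE' i).2
  obtain ⟨φ, hφ⟩ := KDer.liftsFrom_Q F (eF.hom ≫ i ≫ eE.inv)
  obtain ⟨ψ, hψ⟩ := KDer.liftsFrom_Q E (eE.hom ≫ r ≫ eF.inv)
  obtain ⟨ht⟩ : Nonempty (Homotopy (𝟙 F) (φ ≫ ψ)) := by
    refine KDer.homotopy_of_Q_map_eq_of_isKProjective ?_
    rw [Functor.map_comp, hφ, hψ, CategoryTheory.Functor.map_id]
    simp [reassoc_of% h]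
  have hz : ∀ j, j < a → (φ ≫ ψ).f j = 0 := fun j hj => by
    rw [HomologicalComplex.comp_f, (hE j (Or.inl hj)).eq_of_tgt (φ.f j) 0, zero_comp]
  refine Groth.Agent.LoccohB.PerfTri.isPerfect_of_iso eF
    (isPerfect_of_opcycles F (a - 1) c hF hF' (fun i hi => ?_) ?_)
  · exact Groth.Agent.PerfC.RetractPerf.isZero_homology ht i (hz i (by omega))
  · exact opcycles_of_section F (a - 1) hF' (exists_section ht (a - 1) (hz _ (by omega)))

theorem isPerfect_of_biprod (K L : Dual.D A) [HasBinaryBiproduct K L]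
    (h : DRing.IsPerfect A (K ⊞ L)) : DRing.IsPerfect A K ∧ DRing.IsPerfect A L :=
  ⟨isPerfect_of_retract biprod.inl biprod.fst (by simp) h,
    isPerfect_of_retract biprod.inr biprod.snd (by simp) h⟩

/-- Direct summands of `m`-pseudo-coherent objects of `D(A)` are `m`-pseudo-coherent. -/
theorem isPseudoCoherent_of_retract {m : ℤ} {K X : Dual.D A} (i : K ⟶ X) (r : X ⟶ K)
    (h : i ≫ r = 𝟙 K) (hX : DRing.IsPseudoCoherent A m X) : DRing.IsPseudoCoherent A m K :=
  K229.PcRetract.pc_of_retract (isProjClass_ffree A) i r h hX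

theorem isPseudoCoherent'_iff (K : Dual.D A) :
    DRing.IsPseudoCoherent' A K ↔ ∀ m : ℤ, DRing.IsPseudoCoherent A m K :=
  (forall_PC_iff (isProjClass_ffree A) K).symm

theorem isPseudoCoherent'_of_retract {K X : Dual.D A} (i : K ⟶ X) (r : X ⟶ K)
    (h : i ≫ r = 𝟙 K) (hX : DRing.IsPseudoCoherent' A X) : DRing.IsPseudoCoherent' A K := by
  rw [isPseudoCoherent'_iff] at hX ⊢
  exact fun m => isPseudoCoherent_of_retract i r h (hX m)

end K229.PerfRetract
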