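import Groth.Agent.DRing.K229.PerfInd
import Groth.Agent.S0563
import Mathlib.RingTheory.LocalProperties.ProjectiveDimension
import Mathlib.RingTheory.Spectrum.Prime.FreeLocus

/-!
# Finite modules over regular rings are perfect (also in infinite dimension)
-/

set_option autoImplicit false

universe u

open CategoryTheory CategoryTheory.Limits CategoryTheory.Pretriangulated

attribute [local instance] HasDerivedCategory.standard

namespace K229.RegPerf

open Groth.Agent.LoccohB

variable {R : Type u} [CommRing R] [IsNoetherianRing R]

/-- A finite module of finite projective dimension over a Noetherian ring is perfect. -/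
theorem isPerfectModule_of_pd (n : ℕ) : ∀ (M : ModuleCat.{u} R) [Module.Finite R M],
    HasProjectiveDimensionLE M n → DRing.IsPerfect R (Dual.inD R M) := by
  induction n with
  | zero =>
    intro M _ h
    simp only [HasProjectiveDimensionLE, zero_add] at h
    rw [← projective_iff_hasProjectiveDimensionLT_one, ← IsProjective.iff_projective] at h
    exact PerfTri.isPerfect_inD_of_projective (A := R) M
  | succ n ih =>
    intro M _ h
    obtain ⟨F, _, _, _, _, f, hf⟩ := Module.exists_finite_presentation R M
    have hS := LinearMap.shortExact_shortComplexKer hf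
    have proj := ModuleCat.projective_of_categoryTheory_projective f.shortComplexKer.X₂
    have h1 := (hS.hasProjectiveDimensionLT_X₃_iff n proj).1 h
    have h2 := ih (ModuleCat.of R (LinearMap.ker f)) h1
    obtain ⟨T, hT, e1, e2, e3⟩ := PerfTri.exists_triangle (A := R) (LinearMap.ker f).subtype f
      (Submodule.injective_subtype _) (by rw [LinearMap.exact_iff, Submodule.range_subtype]) hf
    have h3 := PerfTri.isPerfect_obj₃ hT (by rw [e1]; exact h2)
      (by rw [e2]; exact PerfTri.isPerfect_inD_of_projective (A := R) F)
    rw [e3] at h3
    exact h3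

/-- The locus of primes at which a finite module has projective dimension `≤ n` is open. -/
theorem isOpen_pd (n : ℕ) : ∀ (M : ModuleCat.{u} R) [Module.Finite R M],
    IsOpen {p : PrimeSpectrum R | HasProjectiveDimensionLE (M.localizedModule p.1.primeCompl) n} := by
  induction n with
  | zero =>
    intro M _
    have : Module.FinitePresentation R M := Module.finitePresentation_of_finite R M
    convert Module.isOpen_freeLocus (R := R) (M := M)
    ext p
    simp only [HasProjectiveDimensionLE, zero_add, Set.mem_ofPred_eq]
    rw [← projective_iff_hasProjectiveDimensionLT_one, ← IsProjective.iff_projective,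
      Module.mem_freeLocus_of_isLocalization p (Localization.AtPrime p.asIdeal)
        (f := M.localizedModuleMkLinearMap p.1.primeCompl)]
    have : Module.Finite (Localization.AtPrime p.asIdeal) (M.localizedModule p.1.primeCompl) :=
      Module.Finite.of_isLocalizedModule p.1.primeCompl (M.localizedModuleMkLinearMap p.1.primeCompl)
    refine ⟨fun h => ?_, fun h => @Module.Projective.of_free _ _ _ _ _ h⟩
    have : Module.Flat (Localization.AtPrime p.asIdeal) (M.localizedModule p.1.primeCompl) :=
      @Module.Flat.of_projective _ _ _ _ _ h
    exact Module.free_of_flat_of_isLocalRing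
  | succ n ih =>
    intro M _
    obtain ⟨F, _, _, _, _, f, hf⟩ := Module.exists_finite_presentation R M
    have hS := LinearMap.shortExact_shortComplexKer hf
    have proj := ModuleCat.projective_of_categoryTheory_projective f.shortComplexKer.X₂
    let Sp (p : PrimeSpectrum R) :=
      f.shortComplexKer.map (ModuleCat.localizedModuleFunctor p.1.primeCompl)
    have Sp_exact (p : PrimeSpectrum R) : (Sp p).ShortExact :=
      hS.map_of_exact (ModuleCat.localizedModuleFunctor p.asIdeal.primeCompl)
    have projp (p : PrimeSpectrum R) : Projective (Sp p).X₂ :=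
      (ModuleCat.localizedModuleFunctor.{u} p.1.primeCompl).projective_obj_of_projective proj
    have h2 := ih (ModuleCat.of R (LinearMap.ker f))
    convert h2 using 1
    ext p
    exact (Sp_exact p).hasProjectiveDimensionLT_X₃_iff n (projp p)

/-- Finite modules over a regular ring have finite projective dimension. -/
theorem exists_pd (hreg : ∀ p : PrimeSpectrum R, IsRegularLocalRing (Localization.AtPrime p.asIdeal))
    (M : ModuleCat.{u} R) [Module.Finite R M] : ∃ n, HasProjectiveDimensionLE M n := by
  let U : ℕ → Set (PrimeSpectrum R) := fun n =>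
    {p : PrimeSpectrum R | HasProjectiveDimensionLE (M.localizedModule p.1.primeCompl) n}
  have hU : ∀ n, IsOpen (U n) := fun n => isOpen_pd n M
  have hmono : Monotone U := by
    intro m n hmn p hp
    have : HasProjectiveDimensionLT (M.localizedModule p.1.primeCompl) (m + 1) := hp
    exact hasProjectiveDimensionLT_of_ge _ (m + 1) (n + 1) (by omega)
  have hcov : (⋃ n, U n) = Set.univ := by
    rw [Set.eq_univ_iff_forall]
    intro p
    have := hreg p
    obtain ⟨d, hd⟩ : ∃ d : ℕ, ringKrullDim (Localization.AtPrime p.asIdeal) = d := by
      have h1 : ringKrullDim (Localization.AtPrime p.asIdeal) ≠ ⊤ := ringKrullDim_ne_top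
      have h2 : ringKrullDim (Localization.AtPrime p.asIdeal) ≠ ⊥ := ringKrullDim_ne_bot
      obtain ⟨e, he⟩ := WithBot.ne_bot_iff_exists.1 h2
      rw [← he] at h1
      obtain ⟨d, rfl⟩ := ENat.ne_top_iff_exists.1 (show e ≠ ⊤ from fun h => h1 (by rw [h]; rfl))
      exact ⟨d, he.symm⟩
    exact Set.mem_iUnion.2 ⟨d, Groth.Agent.S0563.result (Localization.AtPrime p.asIdeal) d hd
      (M.localizedModule p.1.primeCompl)⟩
  obtain ⟨n, hn⟩ := isCompact_univ.elim_directed_cover U hU (by rw [hcov]) hmono.directed_le
  exact ⟨n, (M.hasProjectiveDimensionLE_iff_forall_primeSpectrum n).2 fun p => hn (Set.mem_univ p)⟩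

/-- Finite modules over a regular ring are perfect. -/
theorem isPerfectModule_of_finite
    (hreg : ∀ p : PrimeSpectrum R, IsRegularLocalRing (Localization.AtPrime p.asIdeal))
    (M : Type u) [AddCommGroup M] [Module R M] [Module.Finite R M] : DRing.IsPerfectModule R M := by
  obtain ⟨n, hn⟩ := exists_pd hreg (ModuleCat.of R M)
  exact isPerfectModule_of_pd n (ModuleCat.of R M) hn

end K229.RegPerf
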