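import Groth.Agent.LoccohB.LBC2
import Groth.Agent.LoccohB.PerfTri
import Mathlib.Order.Interval.Finset.Basic
import Mathlib.Data.Int.Interval

/-!
# Perfect objects over a ring descend to a subring which is finitely generated over `ℤ`
-/

set_option autoImplicit false

universe u

open CategoryTheory CategoryTheory.Limits

attribute [local instance] HasDerivedCategory.standard

namespace K229.RingDesc

section Adj

universe v₁ v₂ u₁ u₂

variable {C : Type u₁} [Category.{v₁} C] {D : Type u₂} [Category.{v₂} D] {F : C ⥤ D} {G : D ⥤ C}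
  (adj : F ⊣ G)

/-- `ι : X ⟶ G Y` is a universal arrow. -/
def Univ (G : D ⥤ C) {X : C} {Y : D} (ι : X ⟶ G.obj Y) : Prop :=
  ∀ (Z : D) (g : X ⟶ G.obj Z), ∃! g' : Y ⟶ Z, ι ≫ G.map g' = g

include adj in
theorem isIso_of_univ {X : C} {Y : D} (ι : X ⟶ G.obj Y) (h : Univ G ι) :
    IsIso ((adj.homEquiv X Y).symm ι) := by
  obtain ⟨g, hg, -⟩ := h (F.obj X) (adj.unit.app X)
  refine ⟨g, ?_, ?_⟩
  · apply (adj.homEquiv _ _).injective
    rw [adj.homEquiv_naturality_right, Equiv.apply_symm_apply, hg, adj.homEquiv_id]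
  · obtain ⟨t, -, ht⟩ := h Y ι
    rw [ht (𝟙 Y) (by beta_reduce; rw [G.map_id, Category.comp_id])]
    apply ht
    rw [G.map_comp, ← Category.assoc, hg, ← adj.homEquiv_unit, Equiv.apply_symm_apply]

end Adj

variable {B : Type u} [CommRing B]

section Cx

variable {A : Type u} [CommRing A] (φ : A →+* B)

/-- A chain map to a restriction of scalars which is universal in each degree. -/
theorem nonempty_iso_of_univ (K : DRing.Cx A) (P : DRing.Cx B) (ι : K ⟶ (DRing.restrictCx φ).obj P)
    (h : ∀ i, Univ (ModuleCat.restrictScalars.{u} φ) (X := K.X i) (Y := P.X i) (ι.f i)) :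
    Nonempty (((ModuleCat.extendScalars.{u, u, u} φ).mapHomologicalComplex (ComplexShape.up ℤ)).obj K ≅ P) := by
  have h1 (i : ℤ) := isIso_of_univ (ModuleCat.extendRestrictScalarsAdj.{u} φ) (ι.f i) (h i)
  refine ⟨HomologicalComplex.Hom.isoOfComponents (fun i => @asIso _ _ _ _ _ (h1 i)) ?_⟩
  intro i j _
  change (((ModuleCat.extendRestrictScalarsAdj.{u} φ).homEquiv (K.X i) (P.X i)).symm (ι.f i)) ≫ P.d i j =
    (ModuleCat.extendScalars.{u, u, u} φ).map (K.d i j) ≫
      (((ModuleCat.extendRestrictScalarsAdj.{u} φ).homEquiv (K.X j) (P.X j)).symm (ι.f j))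
  rw [← Adjunction.homEquiv_naturality_right_symm, ← Adjunction.homEquiv_naturality_left_symm]
  congr 1
  exact ι.comm i j

end Cx

section Lattice

variable (S : Subalgebra ℤ B)

/-- restriction of scalars to the subring -/
noncomputable abbrev resS : ModuleCat.{u} B ⥤ ModuleCat.{u} S :=
  ModuleCat.restrictScalars.{u} (algebraMap S B)

variable {M : ModuleCat.{u} B} {n : ℕ} (r : (Fin n → B) →ₗ[B] M) (s : M →ₗ[B] (Fin n → B))

/-- The elements of `M` with coordinates in `S`. -/
noncomputable def lat : Submodule S ((resS S).obj M) where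
  carrier := {x | ∀ k, s (show M from x) k ∈ S}
  add_mem' {x y} hx hy k := by
    have h : s ((show M from x) + (show M from y)) k = s (show M from x) k + s (show M from y) k := by
      rw [map_add, Pi.add_apply]
    exact h.symm ▸ S.add_mem (hx k) (hy k)
  zero_mem' k := by
    have h : s (0 : M) k = 0 := by rw [map_zero, Pi.zero_apply]
    exact h.symm ▸ S.zero_mem
  smul_mem' c x hx k := by
    have h : s ((c : B) • (show M from x)) k = (c : B) * s (show M from x) k := by
      rw [map_smul, Pi.smul_apply, smul_eq_mul]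
    exact h.symm ▸ S.mul_mem c.2 (hx k)

/-- coordinates -/
noncomputable def σ : lat S s →ₗ[S] (Fin n → S) where
  toFun x k := ⟨s (show M from x.1) k, x.2 k⟩
  map_add' x y := by
    ext k
    change s ((show M from x.1) + (show M from y.1)) k = s (show M from x.1) k + s (show M from y.1) k
    rw [map_add, Pi.add_apply]
  map_smul' c x := by
    ext k
    change s ((c : B) • (show M from x.1)) k = (c : B) * s (show M from x.1) k
    rw [map_smul, Pi.smul_apply, smul_eq_mul]

variable (he : ∀ y : Fin n → B, (∀ k, y k ∈ S) → ∀ k, s (r y) k ∈ S)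

/-- the elements with given coordinates -/
noncomputable def ρ : (Fin n → S) →ₗ[S] lat S s where
  toFun y := ⟨(show ((resS S).obj M) from r (fun k => (y k : B))), he _ fun k => (y k).2⟩
  map_add' x y := by
    apply Subtype.ext
    change r (fun k => ((x k + y k : S) : B)) = r (fun k => (x k : B)) + r (fun k => (y k : B))
    rw [← map_add]
    rfl
  map_smul' c x := by
    apply Subtype.ext
    change r (fun k => ((c * x k : S) : B)) = (c : B) • r (fun k => (x k : B))
    rw [← map_smul]
    rfl

variable (hrs : ∀ x, r (s x) = x)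

include hrs in
lemma ρ_σ (x : lat S s) : ρ S r s he (σ S s x) = x :=
  Subtype.ext (hrs (show M from x.1))

include hrs he in
lemma finProj : Module.Finite S (lat S s) ∧ Module.Projective S (lat S s) := by
  have h : ρ S r s he ∘ₗ σ S s = LinearMap.id := LinearMap.ext (ρ_σ S r s he hrs)
  exact ⟨Module.Finite.of_surjective (ρ S r s he) (fun x => ⟨σ S s x, ρ_σ S r s he hrs x⟩),
    Module.Projective.of_split _ _ h⟩

/-- the inclusion of the lattice. -/
noncomputable def incl : ModuleCat.of S (lat S s) ⟶ (resS S).obj M :=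
  ModuleCat.ofHom (lat S s).subtype

lemma eq_sum {R : Type*} [CommRing R] (y : Fin n → R) :
    y = ∑ k, y k • (Pi.single k (1 : R) : Fin n → R) := by
  ext j
  simp [Finset.sum_apply, Pi.single_apply]

include hrs he in
theorem univ_incl : Univ (resS S) (incl S s) := by
  classical
  intro Q g
  let g₀ : lat S s →ₗ[S] (resS S).obj Q := g.hom
  let q : Fin n → Q := fun k => (show Q from g₀ (ρ S r s he (Pi.single k 1)))
  let h : (Fin n → B) →ₗ[B] Q := Fintype.linearCombination B q
  have h1 : ∀ x : lat S s, h (s (show M from x.1)) = (show Q from g₀ x) := by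
    intro x
    have h2 : g₀ x = ∑ k, (σ S s x k) • g₀ (ρ S r s he (Pi.single k 1)) := by
      conv_lhs => rw [← ρ_σ S r s he hrs x, eq_sum (σ S s x)]
      rw [map_sum, map_sum]
      refine Finset.sum_congr rfl fun k _ => ?_
      rw [map_smul, map_smul]
    rw [h2]
    exact Fintype.linearCombination_apply B q _
  refine ⟨ModuleCat.ofHom (h ∘ₗ s), ?_, ?_⟩
  · ext x
    exact h1 x
  · intro g' hg'
    have h3 : ∀ x : lat S s, g'.hom (show M from x.1) = (show Q from g₀ x) := fun x => by
      have := congr($(hg').hom x)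
      exact this
    ext x
    change g'.hom x = h (s x)
    have h4 : x = ∑ k, (s x k) • r (Pi.single k 1) := by
      conv_lhs => rw [← hrs x, eq_sum (s x)]
      rw [map_sum]
      refine Finset.sum_congr rfl fun k _ => ?_
      rw [map_smul]
    have h5 : ∀ k, g'.hom (r (Pi.single k 1)) = q k := by
      intro k
      have h6 := h3 (ρ S r s he (Pi.single k 1))
      have h7 : (show M from (ρ S r s he (Pi.single k 1)).1) = r (Pi.single k 1) := by
        change r (fun j => (((Pi.single k 1 : Fin n → S) j : S) : B)) = _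
        congr 1
        ext j
        rcases eq_or_ne j k with rfl | hj
        · simp
        · simp [hj]
      rw [h7] at h6
      exact h6
    conv_lhs => rw [h4, map_sum]
    refine (Finset.sum_congr rfl fun k _ => ?_).trans (Fintype.linearCombination_apply B q _).symm
    rw [map_smul, h5]

end Lattice

section LatCx

variable (S : Subalgebra ℤ B) (P : DRing.Cx B) {n : ℤ → ℕ}
  (s : ∀ i, P.X i →ₗ[B] (Fin (n i) → B))
  (H : ∀ (i j : ℤ) (x : P.X i), (∀ k, s i x k ∈ S) → ∀ k, s j ((P.d i j).hom x) k ∈ S)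

/-- The subcomplex of elements with coordinates in `S`. -/
noncomputable def latCx : DRing.Cx S where
  X i := ModuleCat.of S (lat S (s i))
  d i j := ModuleCat.ofHom (LinearMap.restrict ((resS S).map (P.d i j)).hom (p := lat S (s i))
    (q := lat S (s j)) (fun x hx => H i j (show P.X i from x) hx))
  shape i j hij := by
    ext x
    change (P.d i j).hom (show P.X i from x.1) = 0
    rw [P.shape i j hij]
    rfl
  d_comp_d' i j k _ _ := by
    ext x
    change (P.d j k).hom ((P.d i j).hom (show P.X i from x.1)) = 0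
    exact congr($(P.d_comp_d i j k).hom (show P.X i from x.1))

/-- The inclusion of the subcomplex. -/
noncomputable def latι : latCx S P s H ⟶ (DRing.restrictCx (algebraMap S B)).obj P where
  f i := incl S (s i)
  comm' _ _ _ := rfl

end LatCx

/-- **Descent of a bounded complex of finite projective modules** to a finitely generated subring. -/
theorem exists_desc (P : DRing.Cx B) (a b : ℤ) (hP : DRing.VanishesOutside P a b)
    (hP' : DRing.TermwiseFiniteProjective P) :
    ∃ (T : Set B) (_ : T.Finite) (K : DRing.Cx (Algebra.adjoin ℤ T)), DRing.VanishesOutside K a b ∧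
      DRing.TermwiseFiniteProjective K ∧
      Nonempty (((ModuleCat.extendScalars.{u, u, u} (algebraMap (Algebra.adjoin ℤ T) B)).mapHomologicalComplex
        (ComplexShape.up ℤ)).obj K ≅ P) := by
  have hfin : ∀ i, ∃ (n : ℕ) (r : (Fin n → B) →ₗ[B] P.X i) (s : P.X i →ₗ[B] (Fin n → B)),
      ∀ x, r (s x) = x := by
    intro i
    obtain ⟨h1, h2⟩ := hP' i
    obtain ⟨n, f, hf⟩ := Module.Finite.exists_fin' B (P.X i)
    obtain ⟨g, hg⟩ := Module.projective_lifting_property f LinearMap.id hf
    exact ⟨n, f, g, fun x => congr($hg x)⟩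
  choose n r s hrs using hfin
  let T₁ : ℤ → Set B := fun i => Set.range fun kl : Fin (n i) × Fin (n i) => s i (r i (Pi.single kl.1 1)) kl.2
  let T₂ : ℤ → Set B := fun i => Set.range fun kl : Fin (n i) × Fin (n (i + 1)) =>
    s (i + 1) ((P.d i (i + 1)).hom (r i (Pi.single kl.1 1))) kl.2
  let T : Set B := ⋃ i ∈ Finset.Icc a b, T₁ i ∪ T₂ i
  have hT : T.Finite := by
    refine Set.Finite.biUnion (Finset.finite_toSet _) fun i _ => ?_
    exact (Set.finite_range _).union (Set.finite_range _)
  let S := Algebra.adjoin ℤ T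
  have hzero : ∀ i, ¬ (a ≤ i ∧ i ≤ b) → ∀ x : P.X i, x = 0 := by
    intro i hi x
    have := ModuleCat.subsingleton_of_isZero (hP i (by omega))
    exact Subsingleton.elim _ _
  have h1 : ∀ i k l, s i (r i (Pi.single k 1)) l ∈ S := by
    intro i k l
    by_cases hi : a ≤ i ∧ i ≤ b
    · exact Algebra.subset_adjoin (Set.mem_biUnion (Finset.mem_Icc.2 hi) (Or.inl ⟨(k, l), rfl⟩))
    · rw [hzero i hi (r i (Pi.single k 1)), map_zero]
      exact S.zero_mem
  have h2 : ∀ i k l, s (i + 1) ((P.d i (i + 1)).hom (r i (Pi.single k 1))) l ∈ S := by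
    intro i k l
    by_cases hi : a ≤ i ∧ i ≤ b
    · exact Algebra.subset_adjoin (Set.mem_biUnion (Finset.mem_Icc.2 hi) (Or.inr ⟨(k, l), rfl⟩))
    · rw [hzero i hi (r i (Pi.single k 1)), map_zero, map_zero]
      exact S.zero_mem
  have key : ∀ {m : ℕ} {n' : ℕ} (f : (Fin m → B) →ₗ[B] (Fin n' → B)),
      (∀ k l, f (Pi.single k 1) l ∈ S) → ∀ y : Fin m → B, (∀ k, y k ∈ S) → ∀ l, f y l ∈ S := by
    intro m n' f hf y hy l
    rw [eq_sum y, map_sum, Finset.sum_apply]
    refine S.sum_mem fun k _ => ?_
    rw [map_smul, Pi.smul_apply, smul_eq_mul]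
    exact S.mul_mem (hy k) (hf k l)
  have he : ∀ i (y : Fin (n i) → B), (∀ k, y k ∈ S) → ∀ k, s i (r i y) k ∈ S := fun i =>
    key (s i ∘ₗ r i) (h1 i)
  have hd : ∀ i (y : Fin (n i) → B), (∀ k, y k ∈ S) →
      ∀ k, s (i + 1) ((P.d i (i + 1)).hom (r i y)) k ∈ S := fun i =>
    key (s (i + 1) ∘ₗ (P.d i (i + 1)).hom ∘ₗ r i) (h2 i)
  have H : ∀ (i j : ℤ) (x : P.X i), (∀ k, s i x k ∈ S) → ∀ k, s j ((P.d i j).hom x) k ∈ S := by
    intro i j x hx k
    by_cases hij : i + 1 = j
    · subst hij
      have := hd i (s i x) hx k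
      rwa [hrs] at this
    · rw [P.shape i j hij]
      have h0 : s j ((0 : P.X i ⟶ P.X j).hom x) k = 0 := by
        rw [ModuleCat.hom_zero, LinearMap.zero_apply, map_zero, Pi.zero_apply]
      rw [h0]
      exact S.zero_mem
  refine ⟨T, hT, latCx S P s H, ?_, ?_, ?_⟩
  · intro i hi
    have : Subsingleton (lat S (s i)) := ⟨fun x y => Subtype.ext (by
      have h3 := hzero i (by omega)
      exact (h3 x.1).trans (h3 y.1).symm)⟩
    exact ModuleCat.isZero_of_subsingleton (ModuleCat.of S (lat S (s i)))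
  · exact fun i => finProj S (r i) (s i) (he i) (hrs i)
  · exact nonempty_iso_of_univ (algebraMap S B) (latCx S P s H) P (latι S P s H)
      fun i => univ_incl S (r i) (s i) (he i) (hrs i)

/-- **Perfect objects descend to a finitely generated subring.** -/
theorem exists_perfect_desc (K : Dual.D B) (hK : DRing.IsPerfect B K) :
    ∃ (T : Set B) (_ : T.Finite) (K' : Dual.D (Algebra.adjoin ℤ T)),
      DRing.IsPerfect (Algebra.adjoin ℤ T) K' ∧
      ∀ [DRing.HasLBaseChange (algebraMap (Algebra.adjoin ℤ T) B)],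
        Nonempty ((DRing.LBaseChange (algebraMap (Algebra.adjoin ℤ T) B)).obj K' ≅ K) := by
  obtain ⟨P, a, b, hP, hP', ⟨e⟩⟩ := hK
  obtain ⟨T, hT, L, hL, hL', ⟨e'⟩⟩ := exists_desc P a b hP hP'
  refine ⟨T, hT, DRing.toD L, ⟨L, a, b, hL, hL', ⟨Iso.refl _⟩⟩, ?_⟩
  intro _
  have : L.IsKProjective := Groth.Agent.LoccohB.PerfTri.isKProjective_of_vanishesAbove (b := b)
    (fun i hi => hL i (Or.inr hi)) (fun i => (hL' i).2)
  exact ⟨Groth.Agent.LoccohB.LBC.lbcQIso _ L ≪≫ DerivedCategory.Q.mapIso e' ≪≫ e⟩

end K229.RingDesc
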