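import Groth.Agent.DRing.K228.SplitAway
import Groth.Agent.DRing.K228.ToSingle
import Groth.Agent.DRing.K228.GlDim
import Groth.Agent.DRing.K227.PerfFlat

/-!
# Splitting of truncations from vanishing/injectivity of `Hom(K, M[-a])`
-/

set_option autoImplicit false

universe u

open CategoryTheory CategoryTheory.Limits CategoryTheory.Pretriangulated HomologicalComplex

attribute [local instance] HasDerivedCategory.standard

namespace K229.SplitTrunc

open DerivedCategory K228.ToSingle K228.Gap Groth.Agent.Flat2C.TorAmpRestr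

variable {A : Type u} [CommRing A]

theorem homotopy_of_map_eq_zero {P Q : DRing.Cx A} [CochainComplex.IsKProjective P]
    (x : P ⟶ Q) (h : DerivedCategory.Q.map x = 0) : Nonempty (Homotopy x 0) := by
  refine ⟨HomotopyCategory.homotopyOfEq _ _ ?_⟩
  apply (CochainComplex.IsKProjective.Qh_map_bijective P
    ((HomotopyCategory.quotient _ _).obj Q)).injective
  have h1 := (DerivedCategory.quotientCompQhIso (ModuleCat.{u} A)).hom.naturality x
  have h2 := (DerivedCategory.quotientCompQhIso (ModuleCat.{u} A)).hom.naturality (0 : P ⟶ Q)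
  rw [DerivedCategory.Q.map_zero] at h2
  rw [h, ← h2] at h1
  exact (cancel_mono _).mp h1

variable (P : DRing.Cx A) (a : ℤ)

/-- The chain map to the complex concentrated in degree `a` given by a map `P^a → M`. -/
noncomputable def toS {M : ModuleCat.{u} A} (f : P.X a ⟶ M) (hf : P.d (a - 1) a ≫ f = 0) :
    P ⟶ (single (ModuleCat.{u} A) (ComplexShape.up ℤ) a).obj M :=
  mkHomToSingle f (fun j hj => by
    obtain rfl : j = a - 1 := by
      have : j + 1 = a := hj
      omega
    exact hf)

lemma toS_comp {M N : ModuleCat.{u} A} (f : P.X a ⟶ M) (hf : P.d (a - 1) a ≫ f = 0) (g : M ⟶ N) :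
    toS P a f hf ≫ (single (ModuleCat.{u} A) (ComplexShape.up ℤ) a).map g =
      toS P a (f ≫ g) (by rw [← Category.assoc, hf, zero_comp]) := by
  apply to_single_hom_ext
  simp [toS, single_map_f_self]

lemma exists_factor [CochainComplex.IsKProjective P] {M : ModuleCat.{u} A} (f : P.X a ⟶ M)
    (hf : P.d (a - 1) a ≫ f = 0) (h : Q.map (toS P a f hf) = 0) :
    ∃ s : P.X (a + 1) ⟶ M, P.d a (a + 1) ≫ s = f := by
  obtain ⟨H⟩ := homotopy_of_map_eq_zero _ h
  have h1 := H.comm a
  rw [zero_f, add_zero, dNext_eq H.hom (show (ComplexShape.up ℤ).Rel a (a + 1) from rfl),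
    prevD_eq H.hom (show (ComplexShape.up ℤ).Rel (a - 1) a by simp), single_obj_d, comp_zero,
    add_zero] at h1
  refine ⟨H.hom (a + 1) a ≫ (singleObjXSelf (ComplexShape.up ℤ) a M).hom, ?_⟩
  rw [← Category.assoc, ← h1]
  simp [toS]

lemma map_toS_eq_zero {M : ModuleCat.{u} A} (f : P.X a ⟶ M)
    (hf : P.d (a - 1) a ≫ f = 0) (s : P.X (a + 1) ⟶ M) (hs : P.d a (a + 1) ≫ s = f) :
    Q.map (toS P a f hf) = 0 := by
  let h : ∀ i j, (ComplexShape.up ℤ).Rel j i →
      (P.X i ⟶ ((single (ModuleCat.{u} A) (ComplexShape.up ℤ) a).obj M).X j) := fun i j hij =>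
    if hj : j = a then (P.XIsoOfEq (show i = a + 1 by
      have : j + 1 = i := hij
      omega)).hom ≫ s ≫ (singleObjXSelf (ComplexShape.up ℤ) a M).inv ≫ (HomologicalComplex.XIsoOfEq _ hj.symm).hom
      else 0
  have h1 : toS P a f hf = Homotopy.nullHomotopicMap' h := by
    apply to_single_hom_ext
    rw [Homotopy.nullHomotopicMap'_f (show (ComplexShape.up ℤ).Rel (a - 1) a by simp)
      (show (ComplexShape.up ℤ).Rel a (a + 1) from rfl), single_obj_d, comp_zero, add_zero]
    simp [h, toS, ← hs]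
  rw [h1]
  have h2 := Homotopy.nullHomotopy' h
  have h3 : DerivedCategory.Q.map (Homotopy.nullHomotopicMap' h) = DerivedCategory.Q.map 0 := by
    have h4 := HomotopyCategory.eq_of_homotopy _ _ h2
    have h5 := (DerivedCategory.quotientCompQhIso (ModuleCat.{u} A)).hom.naturality
      (Homotopy.nullHomotopicMap' h)
    have h6 := (DerivedCategory.quotientCompQhIso (ModuleCat.{u} A)).hom.naturality
      (0 : P ⟶ (single (ModuleCat.{u} A) (ComplexShape.up ℤ) a).obj M)
    rw [Functor.comp_map] at h5 h6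
    rw [h4, h6] at h5
    exact ((cancel_epi _).mp h5).symm
  rw [h3, DerivedCategory.Q.map_zero]

lemma singleShiftIso_hom_naturality {M N : ModuleCat.{u} A} (g : M ⟶ N) :
    Q.map ((single (ModuleCat.{u} A) (ComplexShape.up ℤ) a).map g) ≫ (singleShiftIso N a).hom =
      (singleShiftIso M a).hom ≫ (shiftFunctor (Dual.D A) (-a)).map
        ((singleFunctor (ModuleCat.{u} A) 0).map g) := by
  have h1 := (singleFunctorIsoCompQ (ModuleCat.{u} A) a).inv.naturality g
  have h2 := ((singleFunctors (ModuleCat.{u} A)).shiftIso (-a) a 0 (by omega)).inv.naturality g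
  dsimp only [singleShiftIso, Iso.trans_hom, Iso.symm_hom, Iso.app_inv]
  rw [Category.assoc]
  erw [← h2, reassoc_of% h1]
  rfl

variable (K : Dual.D A)

/-- If `Hom(K, M[-a]) → Hom(K, M'[-a])` is injective for `M → M'` injective, then the cokernel of
`P^a → P^{a+1}` is projective, `P` a bounded above complex of projectives representing `K`. -/
theorem projective_opcycles (b : ℤ) (hb : DRing.VanishesAbove P b) (hP : ∀ i, Projective (P.X i))
    (e : DRing.toD P ≅ K)
    (h : ∀ (M M' : Type u) [AddCommGroup M] [Module A M] [AddCommGroup M'] [Module A M'] (g : M →ₗ[A] M'),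
      Function.Injective g → Function.Injective (fun x : K ⟶ (shiftFunctor (Dual.D A) (-a)).obj (Dual.inD A M) =>
        x ≫ (shiftFunctor (Dual.D A) (-a)).map
          ((DerivedCategory.singleFunctor (ModuleCat.{u} A) 0).map (ModuleCat.ofHom g)))) :
    Projective (P.opcycles (a + 1)) := by
  have hKP : P.IsKProjective := Groth.Agent.LoccohB.PerfTri.isKProjective_of_vanishesAbove hb
    fun i => (IsProjective.iff_projective _).2 (hP i)
  let I := LinearMap.range (P.d a (a + 1)).hom
  let π : P.X a ⟶ ModuleCat.of A I := ModuleCat.ofHom (P.d a (a + 1)).hom.rangeRestrict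
  let ι : ModuleCat.of A I ⟶ P.X (a + 1) := ModuleCat.ofHom I.subtype
  have hπι : π ≫ ι = P.d a (a + 1) := by
    ext x
    rfl
  have hι : Mono ι := (ModuleCat.mono_iff_injective _).2 I.injective_subtype
  have hπ : Epi π := (ModuleCat.epi_iff_surjective _).2 (LinearMap.surjective_rangeRestrict _)
  have hdπ : P.d (a - 1) a ≫ π = 0 := by
    rw [← cancel_mono ι, Category.assoc, hπι, P.d_comp_d, zero_comp]
  let x : K ⟶ (shiftFunctor (Dual.D A) (-a)).obj (Dual.inD A I) :=
    e.inv ≫ Q.map (toS P a π hdπ) ≫ (singleShiftIso (ModuleCat.of A I) a).hom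
  have hx : x = 0 := by
    apply h I (P.X (a + 1)) I.subtype I.injective_subtype
    change (e.inv ≫ Q.map (toS P a π hdπ) ≫ (singleShiftIso (ModuleCat.of A I) a).hom) ≫
      (shiftFunctor (Dual.D A) (-a)).map ((singleFunctor (ModuleCat.{u} A) 0).map ι) = 0 ≫ _
    rw [zero_comp, Category.assoc, Category.assoc, ← singleShiftIso_hom_naturality, ← Category.assoc (Q.map _),
      ← Functor.map_comp, toS_comp, map_toS_eq_zero P a (π ≫ ι) _ (𝟙 _) (by rw [Category.comp_id, hπι]),
      zero_comp, comp_zero]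
  have hx' : Q.map (toS P a π hdπ) = 0 := by
    have h1 : e.hom ≫ x ≫ (singleShiftIso (ModuleCat.of A I) a).inv = Q.map (toS P a π hdπ) := by
      simp [x]
    rw [← h1, hx, zero_comp, comp_zero]
  obtain ⟨s, hs⟩ := exists_factor P a π hdπ hx'
  have h2 : ι ≫ P.pOpcycles (a + 1) = 0 := by
    rw [← cancel_epi π, ← Category.assoc, hπι, P.d_pOpcycles, comp_zero]
  have h3 : P.d a (a + 1) ≫ (𝟙 _ - s ≫ ι) = 0 := by
    rw [Preadditive.comp_sub, Category.comp_id, ← Category.assoc, hs, hπι, sub_self]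
  let t : P.opcycles (a + 1) ⟶ P.X (a + 1) := P.descOpcycles (𝟙 _ - s ≫ ι) a (by simp) h3
  have ht : t ≫ P.pOpcycles (a + 1) = 𝟙 _ := by
    rw [← cancel_epi (P.pOpcycles (a + 1)), P.p_descOpcycles_assoc, Preadditive.sub_comp,
      Category.id_comp, Category.assoc, h2, comp_zero, sub_zero, Category.comp_id]
  have := hP (a + 1)
  exact Retract.projective ⟨t, P.pOpcycles (a + 1), ht⟩

/-- The truncation of a bounded above complex of projectives with projective cokernel. -/
theorem exists_rep_truncGE (n b : ℤ) (hb : DRing.VanishesAbove P b) (hP : ∀ i, Projective (P.X i))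
    (e : DRing.toD P ≅ K) (hn : Projective (P.opcycles n)) :
    ∃ (E : DRing.Cx A) (b : ℤ), DRing.VanishesOutside E n b ∧ (∀ i : ℤ, Module.Projective A (E.X i)) ∧
      Nonempty (DRing.toD E ≅ (tt.truncGE n).obj K) := by
  obtain ⟨e'⟩ := Groth.Agent.Dcoh.BddCx.nonempty_iso_truncGE P ((tt.truncGE n).obj K) n
    (fun j hj => isZero_homology_truncGE K n j hj)
    (e.hom ≫ (tt.truncGEπ n).app K) (fun j hj => by
      have := isIso_homology_truncGEπ K n j hj
      rw [Functor.map_comp]
      exact IsIso.comp_isIso' inferInstance this)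
  refine ⟨P.truncGE n, b, ?_, ?_, ⟨e'.symm⟩⟩
  · rintro i (hi | hi)
    · exact (P.truncGE n).isZero_of_isStrictlyGE n i hi
    · exact Groth.Agent.Dcoh.BddCx.truncGE_isZero_of_lt P n b hb i hi
  · exact fun i => (IsProjective.iff_projective _).2 (Groth.Agent.Dcoh.BddCx.prop_truncGE_X
      (P := projProp A) (fun M h => (projProp A).prop_of_isZero h) P n hn (fun i _ => hP i) i)

/-- The splitting, and the representation of `τ_{≥ a+1} K`. -/
theorem main
    (hKb : ∃ b : ℤ, ∀ i : ℤ, b < i → Subsingleton (Dual.HD A K i))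
    (h : ∀ (M M' : Type u) [AddCommGroup M] [Module A M] [AddCommGroup M'] [Module A M'] (g : M →ₗ[A] M'),
      Function.Injective g → Function.Injective (fun x : K ⟶ (shiftFunctor (Dual.D A) (-a)).obj (Dual.inD A M) =>
        x ≫ (shiftFunctor (Dual.D A) (-a)).map
          ((DerivedCategory.singleFunctor (ModuleCat.{u} A) 0).map (ModuleCat.ofHom g))))
    (c : ℤ) (hc : c ≤ a + 1) (hca : ∀ i, c ≤ i → i < a + 1 → Subsingleton (Dual.HD A K i)) :
    (∃ e : K ≅ (tt.truncLT c).obj K ⊞ (tt.truncGE (a + 1)).obj K,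
      (tt.truncLTι c).app K ≫ e.hom = biprod.inl ∧
        e.hom ≫ biprod.snd = (tt.truncGEπ (a + 1)).app K) ∧
      ∃ (P : DRing.Cx A) (b : ℤ), DRing.VanishesOutside P (a + 1) b ∧ (∀ i : ℤ, Module.Projective A (P.X i)) ∧
        Nonempty (DRing.toD P ≅ (tt.truncGE (a + 1)).obj K) := by
  obtain ⟨b, hb⟩ := hKb
  obtain ⟨P, hP1, hP2, ⟨e⟩⟩ := K227.PerfFlat.exists_projective_rep K b hb
  obtain ⟨E, b', hE⟩ := exists_rep_truncGE P K (a + 1) b hP1 hP2 e (projective_opcycles P a K b hP1 hP2 e h)
  refine ⟨?_, E, b', hE⟩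
  obtain ⟨e', h1, h2⟩ := K228.SplitAway.exists_split K c (a + 1) hc hca
    (K228.Basic.subsingleton_hom (a + 1) b' _ ⟨E, hE⟩ _ (fun i hi => by
      have h3 : IsZero ((DerivedCategory.homologyFunctor (ModuleCat.{u} A) (i + 1)).obj
          ((tt.truncLT c).obj K)) := isZero_homology_truncLT K c (i + 1) (by omega)
      exact ModuleCat.subsingleton_of_isZero (h3.of_iso
        (((DerivedCategory.homologyFunctor (ModuleCat.{u} A) 0).shiftIso 1 i (i + 1) (by omega)).app
          ((tt.truncLT c).obj K)))))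
  exact ⟨e', h1, h2.symm⟩

/-- No cohomology in degree `a` if there are no maps to modules in degree `a`. -/
theorem subsingleton_of_hom
    (h : ∀ (M : Type u) [AddCommGroup M] [Module A M],
      Subsingleton (K ⟶ (shiftFunctor (Dual.D A) (-a)).obj (Dual.inD A M))) :
    Subsingleton (Dual.HD A K a) := by
  obtain ⟨f, hf⟩ := exists_mono_hom K (Q.objPreimage K) (Q.objObjPreimageIso K) a
  have := h ((Q.objPreimage K).opcycles a)
  rw [Subsingleton.elim f 0, Functor.map_zero] at hf
  exact ModuleCat.subsingleton_of_isZero (@IsZero.of_mono_zero _ _ _ _ _ hf)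

end K229.SplitTrunc
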