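import Groth.Agent.DRing.K227.TorCrit
import Groth.Agent.DRing.K228.Basic
import Groth.Agent.DRing.K229.Devissage

/-!
# Tor amplitude and distinguished triangles; dévissage of tor amplitude
-/

set_option autoImplicit false

universe u

open CategoryTheory CategoryTheory.Limits CategoryTheory.Pretriangulated MonoidalCategory

open scoped ZeroObject

attribute [local instance] HasDerivedCategory.standard

namespace K229.TorTri

open DerivedCategory Groth.Agent DRing K227.PerfFlat K227.TorCrit Groth.Agent.LoccohB.PerfTri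
  Groth.Agent.Flat2C.TorAmpRestr

variable {A : Type u} [CommRing A]

/-- Vanishing of the cohomology of the third vertex of a distinguished triangle. -/
lemma subsingleton_obj₃ {T : Triangle (Dual.D A)} (hT : T ∈ distTriang (Dual.D A)) (i j : ℤ)
    (hij : i + 1 = j) (h1 : Subsingleton (Dual.HD A T.obj₁ j)) (h2 : Subsingleton (Dual.HD A T.obj₂ i)) :
    Subsingleton (Dual.HD A T.obj₃ i) := by
  have z1 : IsZero ((homologyFunctor (ModuleCat.{u} A) j).obj T.obj₁) :=
    @ModuleCat.isZero_of_subsingleton A _ _ h1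
  have z2 : IsZero ((homologyFunctor (ModuleCat.{u} A) i).obj T.obj₂) :=
    @ModuleCat.isZero_of_subsingleton A _ _ h2
  exact ModuleCat.subsingleton_of_isZero (Dcoh.BddCx.isZero_homology_obj₃ T hT i j hij
    ⟨fun _ _ _ => z2.eq_of_src _ _⟩ ⟨fun _ _ _ => z1.eq_of_tgt _ _⟩)

theorem flat_prod (M N : Type u) [AddCommGroup M] [AddCommGroup N] [Module A M]
    [Module A N] [Module.Flat A M] [Module.Flat A N] : Module.Flat A (M × N) := by
  rw [Module.Flat.iff_lTensor_preserves_injective_linearMap]
  intro P P' _ _ _ _ f hf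
  rw [injective_iff_map_eq_zero]
  intro z hz
  have h1 : (LinearMap.fst A M N).rTensor P z = 0 := by
    apply (injective_iff_map_eq_zero _).mp
      (Module.Flat.lTensor_preserves_injective_linearMap (M := M) f hf)
    rw [← LinearMap.comp_apply, LinearMap.lTensor_comp_rTensor, ← LinearMap.rTensor_comp_lTensor,
      LinearMap.comp_apply, hz, map_zero]
  have h2 : (LinearMap.snd A M N).rTensor P z = 0 := by
    apply (injective_iff_map_eq_zero _).mp
      (Module.Flat.lTensor_preserves_injective_linearMap (M := N) f hf)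
    rw [← LinearMap.comp_apply, LinearMap.lTensor_comp_rTensor, ← LinearMap.rTensor_comp_lTensor,
      LinearMap.comp_apply, hz, map_zero]
  have h3 : (LinearMap.inl A M N).rTensor P ((LinearMap.fst A M N).rTensor P z) +
      (LinearMap.inr A M N).rTensor P ((LinearMap.snd A M N).rTensor P z) = z := by
    rw [← LinearMap.comp_apply, ← LinearMap.comp_apply, ← LinearMap.rTensor_comp,
      ← LinearMap.rTensor_comp, ← LinearMap.add_apply, ← LinearMap.rTensor_add]
    have : LinearMap.inl A M N ∘ₗ LinearMap.fst A M N + LinearMap.inr A M N ∘ₗ LinearMap.snd A M N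
        = LinearMap.id := by
      ext <;> simp
    rw [this, LinearMap.rTensor_id]
    rfl
  rw [← h3, h1, h2, map_zero, map_zero, add_zero]

lemma flat_cone {E F : DRing.Cx A} (f : E ⟶ F) (n : ℤ)
    [Module.Flat A (E.X (n + 1))] [Module.Flat A (F.X n)] :
    Module.Flat A ((CochainComplex.mappingCone f).X n) :=
  have := flat_prod (A := A) (E.X (n + 1)) (F.X n)
  Module.Flat.of_linearEquiv (coneEquiv f n)

/-- **Tor amplitude of the third vertex.** -/
theorem torAmp_obj₃ {a b : ℤ} {T : Triangle (Dual.D A)} (hT : T ∈ distTriang (Dual.D A))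
    (h1 : HasTorAmplitudeIn A (a + 1) (b + 1) T.obj₁) (h2 : HasTorAmplitudeIn A a b T.obj₂) :
    HasTorAmplitudeIn A a b T.obj₃ := by
  obtain ⟨P, hP, hP', ⟨e1⟩, -⟩ := exists_rep_of_torAmp h1 (show a + 1 = a + 1 from rfl)
  obtain ⟨F, hF, hF', ⟨e2⟩⟩ := h2
  have hPp : ∀ i, Module.Projective A (P.X i) := fun i => (IsProjective.iff_projective _).2 (hP' i)
  have hPf : TermwiseFlat P := fun i => flat_of_projective (hP' i)
  have hK : P.IsKProjective := isKProjective_of_vanishesAbove hP hPp
  obtain ⟨f, hf⟩ := K228.Basic.exists_Q_map (e1.hom ≫ T.mor₁ ≫ e2.inv)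
  have h := DerivedCategory.mappingCone_triangle_distinguished f
  have e := isoTriangleOfIso₁₂ _ _ h hT e1 e2 (by
    change DerivedCategory.Q.map f ≫ e2.hom = e1.hom ≫ T.mor₁
    rw [hf]; simp)
  have hCf : TermwiseFlat (CochainComplex.mappingCone f) := fun n => by
    have := hPf (n + 1)
    have := hF' n
    exact flat_cone f n
  have hCb : VanishesAbove (CochainComplex.mappingCone f) b := fun i hi =>
    isZero_mappingCone_X f i (hP _ (by omega)) (hF i (Or.inr hi))
  refine torAmp_of_iso (Triangle.π₃.mapIso e)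
    ((torAmp_iff_tensorCx (CochainComplex.mappingCone f) b hCb hCf a b).2 fun M i hi => ?_)
  have hPM := (torAmp_iff_tensorCx P (b + 1) hP hPf (a + 1) (b + 1)).1 (torAmp_of_iso e1.symm h1) M
  have hT' := DerivedCategory.mappingCone_triangle_distinguished
    (((tensorRight M).mapHomologicalComplex (ComplexShape.up ℤ)).map f)
  have h3 := subsingleton_obj₃ hT' i (i + 1) rfl
    ((exactAt_iff_subsingleton_HD (tensorCx P M) (i + 1)).1 (hPM (i + 1) (by omega)))
    ((exactAt_iff_subsingleton_HD (tensorCx F M) i).1 (HomologicalComplex.ExactAt.of_isZero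
      ((tensorRight M).map_isZero (hF i hi))))
  rw [exactAt_iff_subsingleton_HD]
  exact subsingleton_HD_of_iso (DerivedCategory.Q.mapIso
    (CochainComplex.mappingCone.mapHomologicalComplexIso f (tensorRight M))).symm i h3

theorem torAmp_obj₂ {a b : ℤ} {T : Triangle (Dual.D A)} (hT : T ∈ distTriang (Dual.D A))
    (h1 : HasTorAmplitudeIn A a b T.obj₁) (h3 : HasTorAmplitudeIn A a b T.obj₃) :
    HasTorAmplitudeIn A a b T.obj₂ :=
  torAmp_obj₃ (inv_rot_of_distTriang _ hT) (by
    have := torAmp_shift (-1) h3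
    simp only [sub_neg_eq_add] at this
    exact this) h1

theorem torAmp_obj₁ {a b : ℤ} {T : Triangle (Dual.D A)} (hT : T ∈ distTriang (Dual.D A))
    (h2 : HasTorAmplitudeIn A (a + 1) (b + 1) T.obj₂) (h3 : HasTorAmplitudeIn A a b T.obj₃) :
    HasTorAmplitudeIn A (a + 1) (b + 1) T.obj₁ := by
  have h2' := torAmp_shift (-1) h2
  have h3' := torAmp_shift (-1) h3
  simp only [sub_neg_eq_add] at h2' h3'
  exact torAmp_obj₃ (inv_rot_of_distTriang _ (inv_rot_of_distTriang _ hT)) h2' h3'

/-- Objects of tor amplitude in `[a, b]`. -/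
def amp (A : Type u) [CommRing A] (a b : ℤ) : ObjectProperty (Dual.D A) :=
  fun K => HasTorAmplitudeIn A a b K

instance (a b : ℤ) : (amp A a b).IsClosedUnderIsomorphisms where
  of_iso e h := torAmp_of_iso e h

lemma torAmp_of_isZero {K : Dual.D A} (h : IsZero K) (a b : ℤ) : HasTorAmplitudeIn A a b K := by
  refine ⟨0, fun i _ => ?_, fun i => ?_, ⟨?_⟩⟩
  · exact (HomologicalComplex.eval _ _ i).map_isZero (isZero_zero _)
  · have : IsZero ((0 : Cx A).X i) := (HomologicalComplex.eval _ _ i).map_isZero (isZero_zero _)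
    have := ModuleCat.subsingleton_of_isZero this
    infer_instance
  · exact (DerivedCategory.Q.map_isZero (isZero_zero _)).iso h

instance (a b : ℤ) : (amp A a b).ContainsZero where
  exists_zero := ⟨0, isZero_zero _, torAmp_of_isZero (isZero_zero _) a b⟩

instance (a b : ℤ) : (amp A a b).IsTriangulatedClosed₂ where
  ext₂' _ hT h₁ h₃ := ObjectProperty.le_isoClosure _ _ (torAmp_obj₂ hT h₁ h₃)

/-- Tor amplitude of `M[-i]`. -/
lemma torAmp_single {a b i : ℤ} (M : ModuleCat.{u} A)
    (h : HasTorAmplitudeIn A (a - i) (b - i) (Dual.inD A M)) :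
    HasTorAmplitudeIn A a b ((singleFunctor (ModuleCat.{u} A) i).obj M) := by
  have h1 := torAmp_shift (-i) h
  simp only [sub_neg_eq_add, sub_add_cancel] at h1
  exact torAmp_of_iso (((singleFunctors (ModuleCat.{u} A)).shiftIso (-i) i 0 (by omega)).app M) h1

/-- Dévissage through the terms of a bounded complex. -/
theorem torAmp_of_termwise (a b : ℤ) (K : Cx A) (c d : ℤ) (hcd : VanishesOutside K c d)
    (hK : ∀ i : ℤ, HasTorAmplitudeIn A (a - i) (b - i) (Dual.inD A (K.X i))) :
    HasTorAmplitudeIn A a b (toD K) :=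
  K229.Devissage.termwise (amp A a b) K c d hcd fun i => torAmp_single _ (hK i)

/-- Dévissage through the cohomology of a bounded object. -/
theorem torAmp_of_homology (a b : ℤ) (K : Dual.D A)
    (hb : ∃ c d : ℤ, ∀ i : ℤ, (i < c ∨ d < i) → Subsingleton (Dual.HD A K i))
    (hK : ∀ i : ℤ, HasTorAmplitudeIn A (a - i) (b - i) (Dual.inD A (Dual.HD A K i))) :
    HasTorAmplitudeIn A a b K := by
  obtain ⟨c, d, h⟩ := hb
  refine K229.Devissage.homology (amp A a b) K c d (fun i hi => ?_) (fun i => torAmp_single _ (hK i))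
  exact @ModuleCat.isZero_of_subsingleton A _ _ (h i hi)

/-- Tor amplitude passes to retracts. -/
theorem torAmp_of_retract {a b : ℤ} {K X : Dual.D A} (i : K ⟶ X) (r : X ⟶ K) (h : i ≫ r = 𝟙 K)
    (hX : HasTorAmplitudeIn A a b X) : HasTorAmplitudeIn A a b K := by
  have (M : ModuleCat.{u} A) : HasLTensor A M := LoccohB.LBC.hasLTensor M
  rw [torAmp_iff_lten] at hX ⊢
  intro M j hj
  have h1 := hX M j hj
  have z1 : IsZero ((homologyFunctor (ModuleCat.{u} A) j).obj ((LTensor A M).obj X)) :=
    @ModuleCat.isZero_of_subsingleton A _ _ h1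
  refine ModuleCat.subsingleton_of_isZero ?_
  have h2 : (homologyFunctor (ModuleCat.{u} A) j).map ((LTensor A M).map i) ≫
      (homologyFunctor (ModuleCat.{u} A) j).map ((LTensor A M).map r) = 𝟙 _ := by
    rw [← Functor.map_comp, ← Functor.map_comp, h, CategoryTheory.Functor.map_id,
      CategoryTheory.Functor.map_id]
  rw [IsZero.iff_id_eq_zero]
  refine h2.symm.trans ?_
  rw [z1.eq_of_tgt ((homologyFunctor (ModuleCat.{u} A) j).map ((LTensor A M).map i)) 0, zero_comp]

theorem torAmp_of_biprod {a b : ℤ} {K L : Dual.D A} [HasBinaryBiproduct K L]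
    (h : HasTorAmplitudeIn A a b (K ⊞ L)) : HasTorAmplitudeIn A a b K ∧ HasTorAmplitudeIn A a b L :=
  ⟨torAmp_of_retract biprod.inl biprod.fst biprod.inl_fst h,
    torAmp_of_retract biprod.inr biprod.snd biprod.inr_snd h⟩

lemma subsingleton_HD_inD (M : ModuleCat.{u} A) (i : ℤ) (hi : i ≠ 0) :
    Subsingleton (Dual.HD A (Dual.inD A M) i) := by
  have h1 : ((CochainComplex.singleFunctor (ModuleCat.{u} A) 0).obj M).ExactAt i :=
    HomologicalComplex.ExactAt.of_isZero (HomologicalComplex.isZero_single_obj_X _ _ _ _ hi)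
  rw [exactAt_iff_subsingleton_HD] at h1
  exact subsingleton_HD_of_iso ((DerivedCategory.singleFunctorIsoCompQ (ModuleCat.{u} A) 0).symm.app M) i h1

end K229.TorTri
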